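import Cfsg.Agent.Lib.Compute.Chain

/-!
# Checking a stabiliser chain in pieces

`chainCheck` of a large chain split into checks small enough to be evaluated one at a time.
-/

set_option autoImplicit false

namespace Cfsg.Agent.Lib.Compute

/-- The level tests apart from the Schreier generators. -/
noncomputable def levelCheck (O : Ops) (S : List (ℕ × ℕ)) (l : Lvl) : Bool :=
  increasing (l.orb.toList.map Ent.x) &&
  (l.orb.toList.all fun e => entCheck O S l.b l.orb e) &&
  (match l.orb.find l.b with
    | none => false
    | some e => Nat.beq e.u O.one) &&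
  nextCheck O S l.b l.orb l.T l.W

/-- The Schreier tests of generator `k` at `m` entries from the `c`-th. -/
noncomputable def schreierPart (O : Ops) (S : List (ℕ × ℕ)) (l : Lvl) (ls : List Lvl) (k c m : ℕ) : Bool :=
  ((l.orb.toList.drop c).take m).all fun e => schreierCheck O l.orb ls (genAt S O k) e

theorem chainCheck_cons_of_parts {O : Ops} {S : List (ℕ × ℕ)} {l : Lvl} {ls : List Lvl} {m K B : ℕ}
    (hlvl : levelCheck O S l = true) (hS : S.length ≤ K)
    (hlen : l.orb.toList.length ≤ m * B)
    (hsch : ∀ k < K, ∀ c < B, schreierPart O S l ls k (m * c) m = true)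
    (hrest : chainCheck O l.T ls = true) : chainCheck O S (l :: ls) = true := by
  simp only [chainCheck, Bool.and_eq_true]
  simp only [levelCheck, Bool.and_eq_true] at hlvl
  refine ⟨⟨hlvl, List.all_eq_true.2 fun s hs => List.all_eq_true.2 fun e he => ?_⟩, hrest⟩
  obtain ⟨k, hk, rfl⟩ := List.getElem_of_mem hs
  obtain ⟨i, hi, rfl⟩ := List.getElem_of_mem he
  have hm : 0 < m := by
    rcases Nat.eq_zero_or_pos m with rfl | h
    · simp only [Nat.zero_mul, Nat.le_zero] at hlen; omega
    · exact h
  have hdm := Nat.div_add_mod i m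
  have hmod := Nat.mod_lt i hm
  have hB : i / m < B := (Nat.div_lt_iff_lt_mul hm).2 (by rw [Nat.mul_comm]; omega)
  have h := List.all_eq_true.1 (hsch k (by omega) (i / m) hB) _ (show l.orb.toList[i] ∈ _ from ?_)
  · simpa [genAt, List.getElem?_eq_getElem hk] using h
  · refine List.mem_iff_getElem.2 ⟨i % m, ?_, ?_⟩
    · rw [List.length_take, List.length_drop]; omega
    · rw [List.getElem_take, List.getElem_drop]
      simp only [hdm]

end Cfsg.Agent.Lib.Compute
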