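import Cfsg.Agent.Lib.Compute.SchurLie.Cover

/-!
# A four-group multiplier from two double covers

Two double covers and two commuting pairs, each lifting to a commuting pair in one cover and to a
non-commuting pair in the other, give a four-group in kernel and derived subgroup of the fibre product.
-/

set_option autoImplicit false

namespace Cfsg.Agent.Lib.Compute.Schur

open Subgroup
open scoped commutatorElement

universe u v x

/-- The code `g` acts on the points `o, ..., o + m - 1` as the code `a`. -/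
noncomputable def blockEq (w w' o m g a : ℕ) : Bool :=
  (List.range m).all fun j => Nat.beq (getP w g (o + j)) (o + getP w' a j)

/-- Two paths lift two others, and commute exactly if `triv`. -/
noncomputable def liftCommCheck (w w' n o m : ℕ) (L LS : List Lvl) (pa pb qa qb : List ℕ)
    (triv : Bool) : Bool :=
  forceNat (pathEval (permOps w n) L pa).1 fun x =>
  forceNat (pathEval (permOps w n) L pb).1 fun y =>
    blockEq w w' o m x (pathEval (permOps w' m) LS qa).1 &&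
    blockEq w w' o m y (pathEval (permOps w' m) LS qb).1 &&
    (Nat.beq ((permOps w n).mul x y) ((permOps w n).mul y x) == triv)

theorem exists_lift_comm {m n : ℕ} {w w' o : ℕ} (hn : n ≤ 2 ^ w) (hm : m ≤ 2 ^ w')
    {X S : List (ℕ × ℕ)} (hX : GensOK (permCoding w (Equiv.refl (Fin n)) hn) X)
    {L : List Lvl} (hL : chainCheck (permOps w n) X L = true)
    (hS : GensOK (permCoding w' (Equiv.refl (Fin m)) hm) S)
    {LS : List Lvl} (hLS : chainCheck (permOps w' m) S LS = true)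
    (τ : genGroup (permCoding w (Equiv.refl (Fin n)) hn) X →*
      genGroup (permCoding w' (Equiv.refl (Fin m)) hm) S)
    (hspec : ∀ g : genGroup (permCoding w (Equiv.refl (Fin n)) hn) X, ∀ j < m,
      getP w ((permCoding w (Equiv.refl (Fin n)) hn).enc (g : Equiv.Perm (Fin n))) (o + j) =
        o + getP w' ((permCoding w' (Equiv.refl (Fin m)) hm).enc (τ g : Equiv.Perm (Fin m))) j)
    {pa pb qa qb : List ℕ} {triv : Bool}
    (h : liftCommCheck w w' n o m L LS pa pb qa qb triv = true) :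
    ∃ x y, (permCoding w' (Equiv.refl (Fin m)) hm).enc (τ x : Equiv.Perm (Fin m)) =
        (pathEval (permOps w' m) LS qa).1 ∧
      (permCoding w' (Equiv.refl (Fin m)) hm).enc (τ y : Equiv.Perm (Fin m)) =
        (pathEval (permOps w' m) LS qb).1 ∧ (x * y = y * x ↔ triv = true) := by
  let C := permCoding w (Equiv.refl (Fin n)) hn
  let C' := permCoding w' (Equiv.refl (Fin m)) hm
  simp only [liftCommCheck, forceNat_eq, Bool.and_eq_true] at h
  obtain ⟨x, hx, x1, -⟩ := pairOK_pathEval C hX hL pa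
  obtain ⟨y, hy, y1, -⟩ := pairOK_pathEval C hX hL pb
  rw [← x1, ← y1] at h
  obtain ⟨⟨ha, hb⟩, hc⟩ := h
  have key : ∀ (g : genGroup C X) (q : List ℕ),
      blockEq w w' o m (C.enc (g : Equiv.Perm (Fin n))) (pathEval (permOps w' m) LS q).1 = true →
      C'.enc (τ g : Equiv.Perm (Fin m)) = (pathEval (permOps w' m) LS q).1 := by
    intro g q hq
    obtain ⟨a, -, a1, -⟩ := pairOK_pathEval C' hS hLS q
    rw [← a1] at hq ⊢
    refine congrArg _ (Equiv.ext fun j => Fin.ext ?_)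
    simp only [blockEq, List.all_eq_true, List.mem_range] at hq
    have h1 := (hspec g j j.isLt).symm.trans (Nat.eq_of_beq_eq_true (hq j j.isLt))
    have h1 := Nat.add_left_cancel h1
    rw [permCoding_enc, getP_encP hm _ _ j.isLt, permCoding_enc, getP_encP hm _ _ j.isLt] at h1
    simpa [imgP] using h1
  refine ⟨⟨x, hx⟩, ⟨y, hy⟩, key ⟨x, hx⟩ qa ha, key ⟨y, hy⟩ qb hb, ?_⟩
  have hc : Nat.beq ((permOps w n).mul (C.enc x) (C.enc y)) ((permOps w n).mul (C.enc y) (C.enc x)) = triv :=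
    beq_iff_eq.1 hc
  rw [C.mul_enc, C.mul_enc] at hc
  refine ⟨fun e => ?_, fun e => ?_⟩
  · have e : x * y = y * x := congrArg Subtype.val e
    rw [← hc, e]
    exact Nat.beq_refl _
  · rw [e] at hc
    exact Subtype.ext (C.inj (Nat.eq_of_beq_eq_true hc))

theorem ker_le_center_of_card_two {X : Type*} {Q : Type*} [Group X] [Group Q] (τ : X →* Q)
    (hcard : Nat.card τ.ker = 2) : τ.ker ≤ center X := by
  intro z hz
  rw [mem_center_iff]
  intro g
  by_cases hz1 : z = 1
  · simp [hz1]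
  have hc : g * z * g⁻¹ ∈ τ.ker := τ.normal_ker.conj_mem z hz g
  obtain ⟨y, -, huniq⟩ := (Nat.card_eq_two_iff' (1 : τ.ker)).1 hcard
  have e1 := huniq ⟨z, hz⟩ fun h => hz1 (congrArg Subtype.val h)
  have e2 := huniq ⟨_, hc⟩ fun h => hz1 (conj_eq_one_iff.1 (congrArg Subtype.val h))
  exact mul_inv_eq_iff_eq_mul.1 (congrArg Subtype.val (e2.trans e1.symm))

theorem eq_one_or_eq_of_ne_one : ∀ s t : Multiplicative (ZMod 2), s ≠ 1 → t = 1 ∨ t = s := by decide

/-- Two double covers, with two commuting pairs separating them, and the bound four on all central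
extensions give a four-group as multiplier. -/
theorem hasSchurMultiplier_four {Q : Type u} [Group Q] [Finite Q] {X₁ : Type v} [Group X₁]
    {X₂ : Type x} [Group X₂] (τ₁ : X₁ →* Q) (hτ₁ : Function.Surjective τ₁)
    (hk₁ : Nat.card τ₁.ker = 2) (τ₂ : X₂ →* Q) (hτ₂ : Function.Surjective τ₂)
    (hk₂ : Nat.card τ₂.ker = 2)
    (a a' : X₁) (b b' : X₂) (hab : τ₁ a = τ₂ b) (hab' : τ₁ a' = τ₂ b')
    (hna : ¬ a * a' = a' * a) (hb : b * b' = b' * b)
    (c c' : X₁) (d d' : X₂) (hcd : τ₁ c = τ₂ d) (hcd' : τ₁ c' = τ₂ d')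
    (hc : c * c' = c' * c) (hnd : ¬ d * d' = d' * d)
    (hbound : ∀ (Y : Type u) [Group Y] (τ : Y →* Q), Function.Surjective τ → τ.ker ≤ center Y →
      Nat.card (τ.ker ⊓ commutator Y : Subgroup Y) ≤ 4) :
    Cfsg.HasSchurMultiplier Q (Multiplicative (ZMod 2 × ZMod 2)) := by
  haveI := Fact.mk Nat.prime_two
  let Y : Subgroup (X₁ × X₂) :=
    (τ₁.comp (MonoidHom.fst X₁ X₂)).eqLocus (τ₂.comp (MonoidHom.snd X₁ X₂))
  let σ : Y →* Q := (τ₁.comp (MonoidHom.fst X₁ X₂)).comp Y.subtype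
  have hσ : Function.Surjective σ := fun q => by
    obtain ⟨x, hx⟩ := hτ₁ q
    obtain ⟨y, hy⟩ := hτ₂ q
    exact ⟨⟨(x, y), hx.trans hy.symm⟩, hx⟩
  have h₁ := ker_le_center_of_card_two τ₁ hk₁
  have h₂ := ker_le_center_of_card_two τ₂ hk₂
  have hmem : ∀ z : Y, z ∈ σ.ker → z.1.1 ∈ τ₁.ker ∧ z.1.2 ∈ τ₂.ker := fun z hz =>
    ⟨hz, (show τ₁ z.1.1 = τ₂ z.1.2 from z.2).symm.trans hz⟩
  have hσc : σ.ker ≤ center Y := by
    intro z hz
    exact mem_center_iff.2 fun g => Subtype.ext (Prod.ext (mem_center_iff.1 (h₁ (hmem z hz).1) g.1.1)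
      (mem_center_iff.1 (h₂ (hmem z hz).2) g.1.2))
  let H : Subgroup Y := σ.ker ⊓ commutator Y
  let p₁ : H →* τ₁.ker :=
    (((MonoidHom.fst X₁ X₂).comp Y.subtype).comp H.subtype).codRestrict _ fun z => (hmem z.1 z.2.1).1
  let p₂ : H →* τ₂.ker :=
    (((MonoidHom.snd X₁ X₂).comp Y.subtype).comp H.subtype).codRestrict _ fun z => (hmem z.1 z.2.1).2
  haveI : Finite τ₁.ker := Nat.finite_of_card_ne_zero (by rw [hk₁]; norm_num)
  haveI : Finite τ₂.ker := Nat.finite_of_card_ne_zero (by rw [hk₂]; norm_num)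
  haveI : IsCyclic τ₁.ker := isCyclic_of_prime_card hk₁
  haveI : IsCyclic τ₂.ker := isCyclic_of_prime_card hk₂
  let e₁ : τ₁.ker ≃* Multiplicative (ZMod 2) := mulEquivOfCyclicCardEq (by rw [hk₁]; simp)
  let e₂ : τ₂.ker ≃* Multiplicative (ZMod 2) := mulEquivOfCyclicCardEq (by rw [hk₂]; simp)
  let g : H →* Multiplicative (ZMod 2 × ZMod 2) :=
    (MulEquiv.prodMultiplicative (ZMod 2) (ZMod 2)).symm.toMonoidHom.comp
      ((e₁.toMonoidHom.comp p₁).prod (e₂.toMonoidHom.comp p₂))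
  -- the two commutators
  have wit : ∀ (s s' : X₁) (t t' : X₂) (hst : τ₁ s = τ₂ t) (hst' : τ₁ s' = τ₂ t'),
      τ₁ ⁅s, s'⁆ = 1 → ∃ z : H, (p₁ z : X₁) = ⁅s, s'⁆ ∧ (p₂ z : X₂) = ⁅t, t'⁆ := by
    intro s s' t t' hst hst' h1
    refine ⟨⟨⁅(⟨(s, t), hst⟩ : Y), ⟨(s', t'), hst'⟩⁆, ?_,
      commutator_mem_commutator (mem_top _) (mem_top _)⟩, ?_, ?_⟩
    · show τ₁ _ = 1
      simpa [commutatorElement_def] using h1
    · exact map_commutatorElement ((MonoidHom.fst X₁ X₂).comp Y.subtype) _ _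
    · exact map_commutatorElement ((MonoidHom.snd X₁ X₂).comp Y.subtype) _ _
  have e0 : τ₁ ⁅a, a'⁆ = 1 := by
    rw [map_commutatorElement, hab, hab', ← map_commutatorElement,
      commutatorElement_eq_one_iff_mul_comm.2 hb, map_one]
  obtain ⟨z, z1, z2⟩ := wit a a' b b' hab hab' e0
  obtain ⟨y, y1, y2⟩ := wit c c' d d' hcd hcd'
    (by rw [commutatorElement_eq_one_iff_mul_comm.2 hc, map_one])
  rw [commutatorElement_eq_one_iff_mul_comm.2 hb] at z2
  rw [commutatorElement_eq_one_iff_mul_comm.2 hc] at y1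
  have hz1 : p₁ z ≠ 1 := fun e => hna (commutatorElement_eq_one_iff_mul_comm.1
    (z1.symm.trans (congrArg Subtype.val e)))
  have hy2 : p₂ y ≠ 1 := fun e => hnd (commutatorElement_eq_one_iff_mul_comm.1
    (y2.symm.trans (congrArg Subtype.val e)))
  have hz2 : p₂ z = 1 := Subtype.ext z2
  have hy1 : p₁ y = 1 := Subtype.ext y1
  have hg : Function.Surjective g := by
    intro q
    obtain ⟨q', rfl⟩ := (MulEquiv.prodMultiplicative (ZMod 2) (ZMod 2)).symm.surjective q
    obtain ⟨s, t⟩ := q'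
    have n1 : e₁ (p₁ z) ≠ 1 := by simpa using hz1
    have n2 : e₂ (p₂ y) ≠ 1 := by simpa using hy2
    rcases eq_one_or_eq_of_ne_one _ s n1 with rfl | rfl <;> rcases eq_one_or_eq_of_ne_one _ t n2 with rfl | rfl
    · exact ⟨1, by simp [g]⟩
    · exact ⟨y, by simp [g, hy1]⟩
    · exact ⟨z, by simp [g, hz2]⟩
    · exact ⟨z * y, by simp [g, hy1, hz2]⟩
  refine Cfsg.Agent.Lib.Schur.hasSchurMultiplier_of_bound σ hσ hσc g hg fun Y' _ τ h h' => ?_
  refine (hbound Y' τ h h').trans ?_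
  simp [Nat.card_eq_fintype_card]

end Cfsg.Agent.Lib.Compute.Schur
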