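import Cfsg.Agent.Lib.Compute.SchurLie.GTwoFourCover
import Cfsg.Agent.Lib.Compute.SchurLie.GTwoFourSchurOdd
import Cfsg.Agent.Lib.Compute.SchurLie.GTwoFourSchurTwo
import Cfsg.Agent.Lib.Compute.SchurLie.MultiBound
import Cfsg.Agent.Lib.Compute.Simple
import Cfsg.Agent.Lib.Compute.ActionImage
import Cfsg.Agent.Lib.Schur.Cover
import Cfsg.Agent.Lib.G2Natural.Transport

/-! The Schur multiplier of `G2(4)`. -/

set_option autoImplicit false

namespace Cfsg.Agent.Lib.Compute.SchurLie

open Cfsg.Agent.Lib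
open Cfsg.Agent.Lib.Compute.Schur

theorem g24Gens_tab : ∀ g : Fin 6, ∀ j : Fin 416,
    getP 9 (g24Gens.getD g (0, 0)).1 j = CosetTable.SuzG2.tab.act g j := by decide +kernel

theorem g24Gens_length : g24Gens.length = 6 := by decide +kernel

theorem schur_PH : Cfsg.HasSchurMultiplier S1679.PH (Multiplicative (ZMod 2)) := by
  haveI := Fact.mk Nat.prime_two
  haveI := S1679.order_le.1
  have D := S1679.certified
  obtain ⟨φ, hφ⟩ := CosetTable.Pres.exists_action D.good D.extra_eq D.k_eq D.rels_eq D.words D.checked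
  letI : MulAction S1679.PH (Fin CosetTable.SuzG2.tab.n) := MulAction.compHom _ φ
  let gs : List S1679.PH := List.ofFn fun g : Fin 6 => S1679.presH.gens S1679.extraH g
  let pts : Fin 416 → Fin CosetTable.SuzG2.tab.n := fun j => j
  have hinj : Function.Injective pts := fun i j h => h
  have hm : 416 ≤ 2 ^ 9 := by norm_num
  have hS : GensOK (permCoding 9 (Equiv.refl (Fin 416)) hm) g24Gens := gensOK_literal _ _ g24Gens_ok
  have hacts : ActsBy 9 pts gs g24Gens := by
    refine ⟨by rw [g24Gens_length]; exact List.length_ofFn, fun k g p hg hp j => ?_⟩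
    obtain ⟨hk, rfl⟩ := List.getElem?_eq_some_iff.1 hg
    obtain ⟨hk', rfl⟩ := List.getElem?_eq_some_iff.1 hp
    have hk6 : k < 6 := lt_of_lt_of_eq hk List.length_ofFn
    have he := g24Gens_tab ⟨k, hk6⟩ j
    simp only [List.getD_eq_getElem _ _ hk'] at he
    have hlt : CosetTable.SuzG2.tab.act k j < 416 := (D.checked.edge (i := j) j.2 hk6).1
    refine ⟨he ▸ hlt, ?_⟩
    rw [show gs[k]'hk = S1679.presH.gens S1679.extraH k from List.getElem_ofFn hk]
    refine Fin.ext ?_
    show ((φ (S1679.presH.gens S1679.extraH k) (pts j) : Fin _) : ℕ) = _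
    rw [hφ k hk6, D.checked.perm_apply hk6]
    exact he.symm
  have hcardH : Nat.card (⊤ : Subgroup S1679.PH) =
      Nat.card (genGroup (permCoding 9 (Equiv.refl (Fin 416)) hm) g24Gens) := by
    rw [card_genGroup _ hS g24Chain_ok, g24Chain_size, Subgroup.card_top]
    exact S1679.simple_PH.2
  obtain ⟨iso⟩ := nonempty_mulEquiv_genGroup hm ⊤ pts hinj gs (fun _ _ => trivial) hS hacts hcardH
  let eG : S1679.PH ≃* genGroup (permCoding 9 (Equiv.refl (Fin 416)) hm) g24Gens :=
    Subgroup.topEquiv.symm.trans iso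
  haveI : NeZero g24Schur2Part.r := ⟨by decide⟩
  obtain ⟨X, τ, hτ, hcard⟩ := g24_exists_cover
  haveI : IsCyclic τ.ker := isCyclic_of_prime_card hcard
  have hker : τ.ker ⊓ commutator X = τ.ker := inf_eq_left.2 hτ.2.2
  let e : τ.ker ≃* Multiplicative (ZMod 2) := mulEquivOfCyclicCardEq (by rw [hcard]; simp)
  refine Cfsg.Agent.Lib.Schur.hasSchurMultiplier_of_bound τ hτ.1 hτ.2.1
    ((MulEquiv.subgroupCongr hker).trans e).toMonoidHom (MulEquiv.surjective _) fun Y _ ρ h1 h2 => ?_
  have hke : (eG.toMonoidHom.comp ρ).ker = ρ.ker := by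
    ext x
    rw [MonoidHom.mem_ker, MonoidHom.comp_apply, MulEquiv.coe_toMonoidHom, eG.map_eq_one_iff,
      MonoidHom.mem_ker]
  have h2' : (eG.toMonoidHom.comp ρ).ker ≤ Subgroup.center Y := hke.trans_le h2
  have := card_ker_inf_le_of_cert _ hS g24Chain_ok g24Chain_size g24Schur2Part Nat.prime_two
    g24Schur2_ok [g24Schur3, g24Schur5] ?_ ?_ (eG.toMonoidHom.comp ρ) (eG.surjective.comp h1) h2'
  · rw [hke] at this
    exact this.trans (le_of_eq (by rw [Nat.card_eq_fintype_card]; rfl))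
  · rintro B hB
    rcases List.mem_pair.1 hB with rfl | rfl
    · exact ⟨Nat.prime_three, g24Schur3_ok, rfl⟩
    · exact ⟨Nat.prime_five, g24Schur5_ok, rfl⟩
  · intro q hq hd
    have hfac : q ∣ 2 * 3 * 5 * 7 * 13 := by
      have h6 : q ∣ (2 * 3 * 5 * 7 * 13) ^ 12 := ((dvd_pow_self q two_ne_zero).trans hd).trans (by norm_num)
      exact hq.dvd_of_dvd_pow h6
    have hmem : q ∈ [2, 3, 5, 7, 13] := by
      rcases (Nat.Prime.dvd_mul hq).1 hfac with h | h
      · rcases (Nat.Prime.dvd_mul hq).1 h with h | h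
        · rcases (Nat.Prime.dvd_mul hq).1 h with h | h
          · rcases (Nat.Prime.dvd_mul hq).1 h with h | h
            · simp [(Nat.prime_dvd_prime_iff_eq hq Nat.prime_two).1 h]
            · simp [(Nat.prime_dvd_prime_iff_eq hq Nat.prime_three).1 h]
          · simp [(Nat.prime_dvd_prime_iff_eq hq Nat.prime_five).1 h]
        · simp [(Nat.prime_dvd_prime_iff_eq hq (by norm_num : Nat.Prime 7)).1 h]
      · simp [(Nat.prime_dvd_prime_iff_eq hq (by norm_num : Nat.Prime 13)).1 h]
    simp only [List.mem_cons, List.not_mem_nil, or_false] at hmem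
    rcases hmem with rfl | rfl | rfl | rfl | rfl
    · exact Or.inl rfl
    · exact Or.inr ⟨g24Schur3, by simp, rfl⟩
    · exact Or.inr ⟨g24Schur5, by simp, rfl⟩
    · norm_num at hd
    · norm_num at hd

theorem schur_G24 {F : Type*} [Field F] [Fintype F] (hF : Fintype.card F = 4) :
    Cfsg.HasCyclicSchurMultiplier ↥(Cfsg.Lie.chevG2.group F) 2 := by
  let K := GaloisField 2 2
  letI : Fintype K := Fintype.ofFinite K
  have hK : Fintype.card K = 4 := by
    rw [← Nat.card_eq_fintype_card, GaloisField.card 2 2 (by norm_num)]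
    norm_num
  obtain ⟨hc, w, hw⟩ := S1679.exists_root K hK
  obtain ⟨q, hq⟩ := S1679.exists_to_G2 w hw
  have hG : Nat.card (Cfsg.Lie.chevG2.group K) = 251596800 := by
    rw [S1059.result hK]; norm_num
  haveI := S1679.order_le.1
  haveI : Finite (Cfsg.Lie.chevG2.group K) :=
    Nat.finite_of_card_ne_zero (by rw [hG]; norm_num)
  have hb : Function.Bijective q :=
    (Nat.bijective_iff_injective_and_card _).mpr ⟨hq, by rw [hG]; exact S1679.simple_PH.2⟩
  exact Cfsg.Agent.Lib.Schur.hasSchurMultiplier_congr schur_PH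
    ((MulEquiv.ofBijective q hb).trans (G2Natural.groupMap Cfsg.Lie.chevG2
      (FiniteField.ringEquivOfCardEq (hK.trans hF.symm) : K ≃+* F))) (MulEquiv.refl _)

end Cfsg.Agent.Lib.Compute.SchurLie
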