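import Cfsg.Agent.Lib.Compute.SchurLie.GTwoFourSigned
import Cfsg.Agent.Lib.Schur.Cover

/-!
The stem extension of `G2(4)` with kernel of order two given by the signed permutations.
-/

set_option autoImplicit false

namespace Cfsg.Agent.Lib.Compute.SchurLie

open Cfsg.Agent.Lib.CosetTable
open Subgroup
open scoped commutatorElement

theorem g24Flip_ok : rangeAll (fun p => andB (Nat.blt (Nat.xor p 1) 8064)
    (andB (Nat.beq (Nat.xor (Nat.xor p 1) 1) p)
      (rangeAll (fun g => Nat.beq (g24Step g (Nat.xor p 1)) (Nat.xor (g24Step g p) 1)) 6 0))) 8064 0 = true := by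
  decide +kernel

theorem g24_step_spec {g p : ℕ} (hg : g < 6) (hp : p < 8064) :
    g24Step g p < 8064 ∧ g24Step g (g24Step g p) = Nat.xor p (g24SqSign.getD g 0) := by
  have h := rangeAll_spec (rangeAll_spec g24PermCheck_ok g (Nat.zero_le _) (by omega)) p
    (Nat.zero_le _) (by omega)
  simp only [force_eq, andB_eq, Bool.and_eq_true, beq_iff, blt_iff] at h
  exact ⟨h.1, h.2.1⟩

theorem g24_flip_spec {p : ℕ} (hp : p < 8064) : Nat.xor p 1 < 8064 ∧ Nat.xor (Nat.xor p 1) 1 = p ∧
    ∀ g < 6, g24Step g (Nat.xor p 1) = Nat.xor (g24Step g p) 1 := by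
  have h := rangeAll_spec g24Flip_ok p (Nat.zero_le _) (by omega)
  simp only [andB_eq, Bool.and_eq_true, beq_iff, blt_iff] at h
  exact ⟨h.1, h.2.1, fun g hg => beq_iff.mp (rangeAll_spec h.2.2 g (Nat.zero_le _) (by omega))⟩

/-- The sign change. -/
def g24Z : Equiv.Perm (Fin 8064) where
  toFun p := ⟨Nat.xor p 1, (g24_flip_spec p.2).1⟩
  invFun p := ⟨Nat.xor p 1, (g24_flip_spec p.2).1⟩
  left_inv p := Fin.ext (g24_flip_spec p.2).2.1
  right_inv p := Fin.ext (g24_flip_spec p.2).2.1

/-- The lift of a generator. -/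
noncomputable def g24Q (g : ℕ) : Equiv.Perm (Fin 8064) :=
  if hg : g < 6 then Equiv.ofBijective (fun p => ⟨g24Step g p, (g24_step_spec hg p.2).1⟩)
    (Finite.injective_iff_bijective.1 fun p q h => by
      have e : g24Step g (g24Step g p) = g24Step g (g24Step g q) :=
        congrArg (g24Step g) (congrArg Fin.val h)
      rw [(g24_step_spec hg p.2).2, (g24_step_spec hg q.2).2] at e
      exact Fin.ext ((Nat.xor_left_inj).1 e))
  else 1

theorem g24Q_apply {g : ℕ} (hg : g < 6) (p : Fin 8064) : ((g24Q g p : Fin 8064) : ℕ) = g24Step g p := by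
  rw [g24Q, dif_pos hg, Equiv.ofBijective_apply]

theorem g24_eval_apply : ∀ {w : List ℕ}, (∀ a ∈ w, a < 6) → ∀ p : Fin 8064,
    ((eval g24Q w p : Fin 8064) : ℕ) = g24Walk w p
  | [], _, p => rfl
  | a :: w, h, p => by
    rw [g24Walk, force_eq]
    show ((eval g24Q w (g24Q a p) : Fin 8064) : ℕ) = _
    rw [g24_eval_apply (fun b hb => h b (List.mem_cons_of_mem _ hb)), g24Q_apply (h a (by simp))]

/-- In any group, evaluation commutes with homomorphisms. -/
theorem map_eval_word {M N : Type*} [Group M] [Group N] (φ : M →* N) (f : ℕ → M) :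
    ∀ w, φ (eval f w) = eval (fun n => φ (f n)) w
  | [] => map_one φ
  | a :: w => by rw [eval, eval, map_mul, map_eval_word φ f w]

theorem g24Z_ne_one : g24Z ≠ 1 := fun e => by
  have := congrArg Fin.val (Equiv.ext_iff.1 e ⟨0, by norm_num⟩)
  exact absurd this (by decide)

theorem g24_exists_cover : ∃ (X : Subgroup (Equiv.Perm (Fin 8064))) (τ : X →* S1679.PH),
    Cfsg.IsStemExtension τ ∧ Nat.card τ.ker = 2 := by
  let X : Subgroup (Equiv.Perm (Fin 8064)) := closure ({g24Z} ∪ {x | ∃ g, g < 6 ∧ g24Q g = x})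
  have hzX : g24Z ∈ X := subset_closure (Or.inl rfl)
  have hcomm : ∀ x ∈ X, x * g24Z = g24Z * x := by
    intro x hx
    refine mem_centralizer_singleton_iff.1 ((closure_le _).2 ?_ hx)
    rintro _ (rfl | ⟨g, hg, rfl⟩)
    · exact mem_centralizer_singleton_iff.2 rfl
    · refine mem_centralizer_singleton_iff.2 (Equiv.ext fun p => Fin.ext ?_)
      rw [Equiv.Perm.mul_apply, Equiv.Perm.mul_apply]
      show ((g24Q g (g24Z p) : Fin 8064) : ℕ) = Nat.xor (g24Q g p : Fin 8064) 1
      rw [g24Q_apply hg, g24Q_apply hg]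
      exact (g24_flip_spec p.2).2.2 g hg
  let zX : X := ⟨g24Z, hzX⟩
  have hzc : zX ∈ center X := mem_center_iff.2 fun x => Subtype.ext (hcomm x.1 x.2)
  have hz2 : zX * zX = 1 :=
    Subtype.ext (Equiv.ext fun p => Fin.ext (g24_flip_spec p.2).2.1)
  have hz1 : zX ≠ 1 := fun e => g24Z_ne_one (congrArg Subtype.val e)
  have hord : orderOf zX = 2 := orderOf_eq_prime (by rw [pow_two]; exact hz2) hz1
  haveI hn : (zpowers zX).Normal := ⟨fun a ha g => by
    rw [mem_center_iff.1 ((zpowers_le.2 hzc) ha) g, mul_inv_cancel_right]; exact ha⟩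
  let q : ℕ → X := fun g => if hg : g < 6 then ⟨g24Q g, subset_closure (Or.inr ⟨g, hg, rfl⟩)⟩ else 1
  have hq : ∀ g < 6, (q g : Equiv.Perm (Fin 8064)) = g24Q g := fun g hg => by simp [q, hg]
  have heval : ∀ {w : List ℕ}, (∀ a ∈ w, a < 6) → ((eval q w : X) : Equiv.Perm _) = eval g24Q w := by
    intro w hw
    refine (map_eval_word X.subtype q w).trans (eval_congr (f := fun n => X.subtype (q n)) ?_)
    exact fun a ha => hq a (hw a ha)
  let M := X ⧸ zpowers zX
  let p : ℕ → M := fun g => QuotientGroup.mk (q g)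
  have hp : ∀ g < S1679.presH.k, p g * p g = 1 := by
    intro g hg
    have hg : g < 6 := hg
    rw [show p g * p g = QuotientGroup.mk (q g * q g) from rfl, QuotientGroup.eq_one_iff]
    have hsq : ∀ x : Fin 8064, ((((q g * q g : X) : Equiv.Perm _) x : Fin 8064) : ℕ) =
        Nat.xor x (g24SqSign.getD g 0) := fun x => by
      rw [Subgroup.coe_mul, Equiv.Perm.mul_apply, hq g hg, g24Q_apply hg, g24Q_apply hg]
      exact (g24_step_spec hg x.2).2
    rcases Nat.le_one_iff_eq_zero_or_eq_one.1 (g24SqSign_le g hg) with h | h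
    · have : q g * q g = 1 := Subtype.ext (Equiv.ext fun x => Fin.ext (by
        rw [hsq x, h]; exact Nat.xor_zero _))
      rw [this]; exact one_mem _
    · have : q g * q g = zX := Subtype.ext (Equiv.ext fun x => Fin.ext (by rw [hsq x, h]; rfl))
      rw [this]; exact mem_zpowers _
  have hl : ∀ w ∈ S1679.presH.relWords, ∀ a ∈ w, a < S1679.presH.k := by decide +kernel
  have hrel : ∀ w ∈ S1679.presH.relWords, eval p w = 1 := by
    intro w hw
    rw [show eval p w = QuotientGroup.mk' (zpowers zX) (eval q w) from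
      (map_eval_word (QuotientGroup.mk' (zpowers zX)) q w).symm, QuotientGroup.mk'_apply,
      QuotientGroup.eq_one_iff]
    have hlt : ∀ a ∈ w, a < 6 := hl w hw
    have h := allL_spec g24Rels_ok w hw
    simp only [g24RelOK, Bool.or_eq_true] at h
    rcases h with h | h
    · have : eval q w = 1 := Subtype.ext (Equiv.ext fun x => Fin.ext (by
        rw [heval hlt, g24_eval_apply hlt]
        exact beq_iff.mp (rangeAll_spec h x (Nat.zero_le _) (by omega))))
      rw [this]; exact one_mem _
    · have : eval q w = zX := Subtype.ext (Equiv.ext fun x => Fin.ext (by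
        rw [heval hlt, g24_eval_apply hlt]
        exact beq_iff.mp (rangeAll_spec h x (Nat.zero_le _) (by omega))))
      rw [this]; exact mem_zpowers _
  obtain ⟨θ, hθ⟩ := Pres.exists_hom (extra := S1679.extraH) S1679.presH_good rfl p hp hl hrel
  have hsurj : Function.Surjective θ := by
    rw [← MonoidHom.range_eq_top, eq_top_iff]
    rintro y -
    obtain ⟨⟨x, hx⟩, rfl⟩ := QuotientGroup.mk'_surjective (zpowers zX) y
    induction hx using closure_induction with
    | mem x hx =>
      rcases hx with rfl | ⟨g, hg, rfl⟩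
      · exact ⟨1, by rw [map_one]; exact ((QuotientGroup.eq_one_iff _).2 (mem_zpowers zX)).symm⟩
      · refine ⟨S1679.presH.gens S1679.extraH g, (hθ g hg).trans ?_⟩
        show QuotientGroup.mk (q g) = _
        exact congrArg QuotientGroup.mk (Subtype.ext (hq g hg))
    | one => exact one_mem θ.range
    | mul a b _ _ iha ihb => exact mul_mem iha ihb
    | inv a _ iha => exact inv_mem iha
  have hlw := g24Witness_lt
  have hwit : eval q g24Witness.2 * eval q g24Witness.1 =
      zX * (eval q g24Witness.1 * eval q g24Witness.2) := by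
    rw [← eval_append, ← eval_append]
    refine Subtype.ext (Equiv.ext fun x => Fin.ext ?_)
    rw [Subgroup.coe_mul, heval hlw, heval (fun a ha => hlw a (by
      simp only [List.mem_append] at ha ⊢; tauto))]
    show ((eval g24Q _ x : Fin 8064) : ℕ) = Nat.xor ((eval g24Q _ x : Fin 8064) : ℕ) 1
    rw [g24_eval_apply hlw, g24_eval_apply (fun a ha => hlw a (by
      simp only [List.mem_append] at ha ⊢; tauto))]
    exact beq_iff.mp (rangeAll_spec g24Witness_ok x (Nat.zero_le _) (by omega))
  have hzd : zX ∈ commutator X := by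
    have : zX = ⁅eval q g24Witness.2, eval q g24Witness.1⁆ := by
      rw [commutatorElement_def, hwit]
      group
    rw [this]
    exact commutator_mem_commutator (mem_top _) (mem_top _)
  haveI := S1679.simple_PH.1
  have hinj : Function.Injective θ := by
    rw [← MonoidHom.ker_eq_bot_iff]
    refine θ.normal_ker.eq_bot_or_eq_top.resolve_right fun htop => hz1 ?_
    have hall : ∀ x : X, x ∈ zpowers zX := fun x => by
      obtain ⟨y, hy⟩ := hsurj (QuotientGroup.mk x)
      rw [MonoidHom.mem_ker.1 (htop ▸ mem_top y : y ∈ θ.ker)] at hy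
      exact (QuotientGroup.eq_one_iff x).1 hy.symm
    have hab : eval q g24Witness.2 * eval q g24Witness.1 = eval q g24Witness.1 * eval q g24Witness.2 :=
      (mem_center_iff.1 (zpowers_le.2 hzc (hall _)) _)
    rw [hab] at hwit
    exact (mul_eq_right.1 hwit.symm)
  let e := MulEquiv.ofBijective θ ⟨hinj, hsurj⟩
  have hk : (e.symm.toMonoidHom.comp (QuotientGroup.mk' (zpowers zX))).ker = zpowers zX := by
    ext x
    rw [MonoidHom.mem_ker, MonoidHom.comp_apply, MulEquiv.coe_toMonoidHom, e.symm.map_eq_one_iff,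
      QuotientGroup.mk'_apply, QuotientGroup.eq_one_iff]
  exact ⟨X, e.symm.toMonoidHom.comp (QuotientGroup.mk' (zpowers zX)),
    ⟨e.symm.surjective.comp (QuotientGroup.mk'_surjective _), hk.trans_le (zpowers_le.2 hzc),
      hk.trans_le (zpowers_le.2 hzd)⟩, by rw [hk, Nat.card_zpowers, hord]⟩

end Cfsg.Agent.Lib.Compute.SchurLie
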