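import Cfsg.Agent.Lib.Compute.SchurLie.GTwoFourSignedData
import Cfsg.Agent.S1679

/-!
A double cover of `G2(4)` by signed permutations of 4032 points: every relator of the presentation on six
generators acts as one or as the sign change.
-/

set_option autoImplicit false
set_option maxRecDepth 20000

namespace Cfsg.Agent.Lib.Compute.SchurLie

open Cfsg.Agent.Lib.CosetTable

/-- The entry with the given index among `2 ^ d * 32`. -/
noncomputable def SignTree.get (t : SignTree) : ℕ → ℕ → ℕ :=
  SignTree.rec (motive := fun _ => ℕ → ℕ → ℕ)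
    (fun c _ i => Nat.land (Nat.shiftRight c (Nat.mul 13 i)) 8191)
    (fun _ _ fl fr d i => Bool.rec (motive := fun _ => ℕ)
      (fr (Nat.pred d) (Nat.sub i (Nat.mul 32 (Nat.pow 2 (Nat.pred d)))))
      (fl (Nat.pred d) i) (Nat.blt i (Nat.mul 32 (Nat.pow 2 (Nat.pred d))))) t

/-- The trees. -/
def g24Trees : List SignTree :=
  [g24Signed0, g24Signed1, g24Signed2, g24Signed3, g24Signed4, g24Signed5]

/-- A generator on signed points. -/
noncomputable def g24Step (g p : ℕ) : ℕ :=
  Nat.xor ((g24Trees.getD g g24Signed0).get 7 (Nat.div p 2)) (Nat.mod p 2)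

/-- A word on signed points, first letter first. -/
noncomputable def g24Walk : List ℕ → ℕ → ℕ
  | [], p => p
  | a :: w, p => force (g24Step a p) (g24Walk w)

/-- Range and inverses. -/
noncomputable def g24PermCheck : Bool :=
  rangeAll (fun g => rangeAll (fun p => force (g24Step g p) fun q =>
    andB (Nat.blt q 8064) (andB (Nat.beq (g24Step g q) (Nat.xor p (g24SqSign.getD g 0)))
      (Nat.blt (Nat.xor p (g24SqSign.getD g 0)) 8064))) 8064 0) 6 0

theorem g24PermCheck_ok : g24PermCheck = true := by decide +kernel

/-- The word keeps all signed points, or flips all. -/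
noncomputable def g24RelOK (w : List ℕ) : Bool :=
  rangeAll (fun p => Nat.beq (g24Walk w p) p) 8064 0 ||
    rangeAll (fun p => Nat.beq (g24Walk w p) (Nat.xor p 1)) 8064 0

theorem g24Rels_ok : allL g24RelOK S1679.presH.relWords = true := by decide +kernel

theorem g24Witness_ok :
    rangeAll (fun p => Nat.beq (g24Walk (g24Witness.1 ++ g24Witness.2) p)
      (Nat.xor (g24Walk (g24Witness.2 ++ g24Witness.1) p) 1)) 8064 0 = true := by decide +kernel

theorem g24Witness_lt : ∀ a ∈ g24Witness.1 ++ g24Witness.2, a < 6 := by decide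

theorem g24SqSign_le : ∀ g < 6, g24SqSign.getD g 0 ≤ 1 := by decide

end Cfsg.Agent.Lib.Compute.SchurLie
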