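import Cfsg.Agent.Lib.Compute.SchurLie.GTwoThreeData
import Cfsg.Agent.Lib.Compute.SchurLie.GTwoThreePoints
import Cfsg.Agent.Lib.G2Three.Group

/-! The action of the generating words of `G2(3)` on 351 lines. -/

set_option autoImplicit false

namespace Cfsg.Agent.Lib.Compute.SchurLie

open Cfsg.Agent.Lib
open Matrix

/-- The vector with the digits of a code. -/
noncomputable def g23Of (c : ℕ) : G2Three.V := fun i => ((getP 2 c i.val : ℕ) : ZMod 3)

/-- A representing vector. -/
noncomputable def g23Vec (j : ℕ) : G2Three.V := g23Of (g23Lines.getD j 0)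

/-- The effect of a word. -/
def g23Apply (u : List (Fin 12 × ZMod 3)) (v : G2Three.V) : G2Three.V :=
  u.foldr (fun p x => G2Three.rootMat p.1 p.2 *ᵥ x) v

/-- A matrix in rows of base-four digits applied to a code. -/
noncomputable def g23Step (rows : List ℕ) (c : ℕ) : ℕ :=
  packP 2 (fun i => ((List.range 14).map fun j => getP 2 (rows.getD i 0) j * getP 2 c j).sum % 3) 14

/-- The effect of a word on codes. -/
noncomputable def g23ApplyN : List (Fin 12 × ZMod 3) → ℕ → ℕ
  | [], c => c
  | p :: u, c => forceNat (g23ApplyN u c) fun x =>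
      g23Step ((G2Three.rootCode.getD p.1.val []).getD p.2.val []) x

theorem g23_digit (c i : ℕ) : getP 2 c i = c / 4 ^ i % 4 := by
  rw [getP_eq, pow_mul]
  rfl

theorem g23Apply_code : ∀ (u : List (Fin 12 × ZMod 3)) (c : ℕ),
    g23Apply u (g23Of c) = g23Of (g23ApplyN u c)
  | [], c => rfl
  | p :: u, c => by
    show G2Three.rootMat p.1 p.2 *ᵥ g23Apply u (g23Of c) = _
    rw [g23Apply_code u c, g23ApplyN, forceNat_eq]
    funext i
    show _ = ((getP 2 (g23Step _ _) i.val : ℕ) : ZMod 3)
    rw [g23Step, getP_packP (fun j _ => (Nat.mod_lt _ (by norm_num)).trans (by norm_num)) i.isLt,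
      ZMod.natCast_mod, Nat.cast_list_sum, List.map_map]
    rw [← List.sum_toFinset _ List.nodup_range, List.toFinset_range, Finset.sum_range]
    simp only [Matrix.mulVec, dotProduct]
    refine Finset.sum_congr rfl fun j _ => ?_
    simp [G2Three.rootMat, G2Three.ofCode, g23Of, g23_digit]

theorem g23_rootMat_neg : ∀ (r : Fin 12) (t : ZMod 3) (p : Fin 14 × Fin 14),
    (G2Three.rootMat r t * G2Three.rootMat r (-t)) p.1 p.2 = (1 : Matrix (Fin 14) (Fin 14) (ZMod 3)) p.1 p.2 := by
  decide +kernel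

/-- The code of the negative vector. -/
noncomputable def g23Neg (c : ℕ) : ℕ := packP 2 (fun i => (3 - getP 2 c i) % 3) 14

theorem g23_acts_code : ∀ k : Fin 2, ∀ j : Fin 351,
    getP 9 (g23Gens.getD k (0, 0)).1 j < 351 ∧
    (g23ApplyN (g23Words.getD k []) (g23Lines.getD j 0) =
        g23Lines.getD (getP 9 (g23Gens.getD k (0, 0)).1 j) 0 ∨
      g23ApplyN (g23Words.getD k []) (g23Lines.getD j 0) =
        g23Neg (g23Lines.getD (getP 9 (g23Gens.getD k (0, 0)).1 j) 0)) := by
  decide +kernel

theorem g23Neg_spec : ∀ j : Fin 351, ∀ i : Fin 14,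
    getP 2 (g23Lines.getD j 0) i ≤ 2 := by
  decide +kernel

theorem g23Of_neg (j : Fin 351) : g23Of (g23Neg (g23Lines.getD j 0)) = - g23Vec j := by
  funext i
  show ((getP 2 (g23Neg _) i.val : ℕ) : ZMod 3) = -((getP 2 (g23Lines.getD j 0) i.val : ℕ) : ZMod 3)
  rw [g23Neg, getP_packP (fun l _ => (Nat.mod_lt _ (by norm_num)).trans (by norm_num)) i.isLt,
    ZMod.natCast_mod, Nat.cast_sub (by have := g23Neg_spec j i; omega),
    show ((3 : ℕ) : ZMod 3) = 0 from rfl, zero_sub]

theorem g23_acts : ∀ k : Fin 2, ∀ j : Fin 351,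
    getP 9 (g23Gens.getD k (0, 0)).1 j < 351 ∧
    ((∀ i, g23Apply (g23Words.getD k []) (g23Vec j) i = g23Vec (getP 9 (g23Gens.getD k (0, 0)).1 j) i) ∨
      (∀ i, g23Apply (g23Words.getD k []) (g23Vec j) i =
        - g23Vec (getP 9 (g23Gens.getD k (0, 0)).1 j) i)) := by
  intro k j
  obtain ⟨hlt, he⟩ := g23_acts_code k j
  refine ⟨hlt, he.imp (fun e i => ?_) fun e i => ?_⟩
  · rw [g23Vec, g23Apply_code, e]
    rfl
  · rw [g23Vec, g23Apply_code, e]
    exact congrFun (g23Of_neg ⟨_, hlt⟩) i

theorem g23Lines_bound : ∀ j : Fin 351, g23Lines.getD j 0 < 2 ^ 28 ∧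
    packP 2 (getP 2 (g23Lines.getD j 0)) 14 = g23Lines.getD j 0 := by
  decide +kernel

theorem g23Packed_spec : ∀ j : Fin 351, getP 28 g23Packed j = g23Lines.getD j 0 ∧
    getP 28 g23NegPacked j = g23Neg (g23Lines.getD j 0) := by
  decide +kernel

/-- All packed lines differ from each other and from all packed negatives. -/
noncomputable def g23DistinctCheck : Bool :=
  (List.range 351).all fun i => forceNat (getP 28 g23Packed i) fun x => (List.range 351).all fun j =>
    (Nat.beq i j || !Nat.beq x (getP 28 g23Packed j)) && !Nat.beq x (getP 28 g23NegPacked j)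

theorem g23DistinctCheck_ok : g23DistinctCheck = true := by decide +kernel

theorem g23Lines_distinct (i j : Fin 351) :
    (Nat.beq (g23Lines.getD i 0) (g23Lines.getD j 0) = true → i = j) ∧
    Nat.beq (g23Lines.getD i 0) (g23Neg (g23Lines.getD j 0)) = false := by
  have h := g23DistinctCheck_ok
  simp only [g23DistinctCheck, forceNat_eq, List.all_eq_true, List.mem_range, Bool.and_eq_true,
    Bool.or_eq_true, Bool.not_eq_true'] at h
  obtain ⟨h1, h2⟩ := h i i.isLt j j.isLt
  rw [(g23Packed_spec i).1, (g23Packed_spec j).1] at h1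
  rw [(g23Packed_spec i).1, (g23Packed_spec j).2] at h2
  refine ⟨fun e => ?_, h2⟩
  rcases h1 with h1 | h1
  · exact Fin.ext (Nat.eq_of_beq_eq_true h1)
  · rw [e] at h1
    simp at h1

theorem g23Of_injective {a b : ℕ} (ha : ∀ i : Fin 14, getP 2 a i ≤ 2) (hb : ∀ i : Fin 14, getP 2 b i ≤ 2)
    (h : g23Of a = g23Of b) : packP 2 (getP 2 a) 14 = packP 2 (getP 2 b) 14 :=
  packP_congr fun i hi => by
    have e := congrFun h ⟨i, hi⟩
    have e := (ZMod.natCast_eq_natCast_iff' _ _ _).1 e
    have := ha ⟨i, hi⟩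
    have := hb ⟨i, hi⟩
    simp only at *
    omega

theorem g23_inj (i j : Fin 351) (h : (∀ a, g23Vec i a = g23Vec j a) ∨ (∀ a, g23Vec i a = - g23Vec j a)) :
    i = j := by
  have hn : ∀ a : Fin 14, getP 2 (g23Neg (g23Lines.getD j 0)) a ≤ 2 := fun a => by
    rw [g23Neg, getP_packP (fun l _ => (Nat.mod_lt _ (by norm_num)).trans (by norm_num)) a.isLt]
    omega
  rcases h with h | h
  · have e := g23Of_injective (g23Neg_spec i) (g23Neg_spec j) (funext h)
    rw [(g23Lines_bound i).2, (g23Lines_bound j).2] at e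
    exact (g23Lines_distinct i j).1 (by rw [e]; exact Nat.beq_refl _)
  · have e := g23Of_injective (g23Neg_spec i) hn ((funext h).trans (g23Of_neg j).symm)
    rw [(g23Lines_bound i).2] at e
    have e' : packP 2 (getP 2 (g23Neg (g23Lines.getD j 0))) 14 = g23Neg (g23Lines.getD j 0) :=
      packP_congr fun l hl => getP_packP (fun l _ => (Nat.mod_lt _ (by norm_num)).trans (by norm_num)) hl
    rw [e'] at e
    have := (g23Lines_distinct i j).2
    rw [e] at this
    simp at this

theorem g23Gens_length : g23Gens.length = 2 := by decide +kernel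

end Cfsg.Agent.Lib.Compute.SchurLie
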