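import Cfsg.Agent.Lib.Compute.SchurLie.FourCover

/-!
# A central cover of prime degree with one non-commuting lift of a commuting pair

It is a stem extension, whether or not the cover is certified perfect.
-/

set_option autoImplicit false

namespace Cfsg.Agent.Lib.Compute.Schur

open Subgroup
open scoped commutatorElement

theorem exists_prime_cover {m n : ℕ} {w w' o k : ℕ} (hk : k.Prime) (hn : n ≤ 2 ^ w)
    (hm : m ≤ 2 ^ w') (ho : o + m ≤ n) {X S : List (ℕ × ℕ)}
    (hX : GensOK (permCoding w (Equiv.refl (Fin n)) hn) X)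
    (hS : GensOK (permCoding w' (Equiv.refl (Fin m)) hm) S)
    (hblock : blockMapCheck w w' o m X S = true) {L : List Lvl}
    (hL : chainCheck (permOps w n) X L = true) {LS : List Lvl}
    (hLS : chainCheck (permOps w' m) S LS = true) (hsize : chainSize L = k * chainSize LS)
    {xs : List ℕ} (hker : kerGenCheck w n o m k X L xs = true)
    {pa pb qa qb : List ℕ} (hlift : liftCommCheck w w' n o m L LS pa pb qa qb false = true)
    (hcomm : ∀ a b : genGroup (permCoding w' (Equiv.refl (Fin m)) hm) S,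
      (permCoding w' (Equiv.refl (Fin m)) hm).enc (a : Equiv.Perm (Fin m)) =
          (pathEval (permOps w' m) LS qa).1 →
      (permCoding w' (Equiv.refl (Fin m)) hm).enc (b : Equiv.Perm (Fin m)) =
          (pathEval (permOps w' m) LS qb).1 → a * b = b * a) :
    ∃ τ : genGroup (permCoding w (Equiv.refl (Fin n)) hn) X →*
        genGroup (permCoding w' (Equiv.refl (Fin m)) hm) S,
      Cfsg.IsStemExtension τ ∧ Nat.card τ.ker = k ∧ IsCyclic τ.ker := by
  obtain ⟨τ, hsurj, hcard, hspec⟩ :=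
    exists_restriction_spec (Equiv.refl (Fin m)) hk.pos hn hm ho hX hS hblock hL hLS hsize
  haveI := Fact.mk hk
  let C := permCoding w (Equiv.refl (Fin n)) hn
  obtain ⟨z, hz, hz1, -⟩ := pairOK_pathEval C hX hL xs
  simp only [kerGenCheck, forceNat_eq, Bool.and_eq_true, List.all_eq_true, List.mem_range,
    Bool.or_eq_true, Bool.not_eq_true'] at hker
  obtain ⟨⟨⟨hfix, hcz⟩, -⟩, hne⟩ := hker
  rw [← hz1] at hfix hcz hne
  have hcen : (⟨z, hz⟩ : genGroup C X) ∈ center (genGroup C X) :=
    mem_center_of_comm hn _ fun q hq => Nat.eq_of_beq_eq_true (hcz q hq)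
  have hmem : (⟨z, hz⟩ : genGroup C X) ∈ τ.ker := by
    refine Subtype.ext (Equiv.ext fun a => Fin.ext ?_)
    have h := hspec ⟨z, hz⟩ a a.isLt
    rw [Nat.eq_of_beq_eq_true (hfix a a.isLt), permCoding_enc w' (Equiv.refl (Fin m)) hm,
      getP_encP hm _ _ a.isLt] at h
    simpa [imgP] using (Nat.add_left_cancel h).symm
  have hne1 : (⟨z, hz⟩ : genGroup C X) ≠ 1 := by
    intro e
    rcases hne 1 hk.one_lt with h | h
    · simp at h
    · rw [powC_enc, show z = 1 from congrArg Subtype.val e, one_pow, C.one_enc] at h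
      simp at h
  haveI : IsCyclic τ.ker := isCyclic_of_prime_card hcard
  have hgen : ∀ g : τ.ker, g ≠ 1 → ∀ x : τ.ker, x ∈ zpowers g := fun g hg x =>
    mem_zpowers_of_prime_card hcard hg
  have hc : τ.ker ≤ center _ := by
    intro x hx
    obtain ⟨i, hi⟩ := mem_zpowers_iff.1 (hgen ⟨⟨z, hz⟩, hmem⟩
      (fun e => hne1 (congrArg Subtype.val e)) ⟨x, hx⟩)
    have : x = (⟨z, hz⟩ : genGroup C X) ^ i := by simpa using (congrArg Subtype.val hi).symm
    exact this ▸ zpow_mem hcen i
  obtain ⟨x, y, ex, ey, hxy⟩ := exists_lift_comm hn hm hX hL hS hLS τ hspec hlift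
  have hd : ⁅x, y⁆ ∈ τ.ker := by
    rw [MonoidHom.mem_ker, map_commutatorElement, commutatorElement_eq_one_iff_mul_comm]
    exact hcomm _ _ ex ey
  refine ⟨τ, ⟨hsurj, hc, fun v hv => ?_⟩, hcard, inferInstance⟩
  obtain ⟨i, hi⟩ := mem_zpowers_iff.1 (hgen ⟨⁅x, y⁆, hd⟩
    (fun e => Bool.false_ne_true (hxy.1 (commutatorElement_eq_one_iff_mul_comm.1 (congrArg Subtype.val e))))
    ⟨v, hv⟩)
  have : v = ⁅x, y⁆ ^ i := by simpa using (congrArg Subtype.val hi).symm
  exact this ▸ zpow_mem (commutator_mem_commutator (mem_top x) (mem_top y)) i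

/-- The elements with the codes of two paths commute if their codes do. -/
theorem comm_of_codes {m w : ℕ} (hm : m ≤ 2 ^ w) {S : List (ℕ × ℕ)} {ca cb : ℕ}
    (h : Nat.beq ((permOps w m).mul ca cb) ((permOps w m).mul cb ca) = true)
    (a b : genGroup (permCoding w (Equiv.refl (Fin m)) hm) S)
    (ha : (permCoding w (Equiv.refl (Fin m)) hm).enc (a : Equiv.Perm (Fin m)) = ca)
    (hb : (permCoding w (Equiv.refl (Fin m)) hm).enc (b : Equiv.Perm (Fin m)) = cb) : a * b = b * a := by
  let C := permCoding w (Equiv.refl (Fin m)) hm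
  have h := Nat.eq_of_beq_eq_true h
  rw [← ha, ← hb, C.mul_enc, C.mul_enc] at h
  exact Subtype.ext (C.inj h)

end Cfsg.Agent.Lib.Compute.Schur
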