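import Cfsg.Agent.Lib.Compute.SchurLie.GTwoThreeCover
import Cfsg.Agent.Lib.Compute.SchurLie.GTwoThreeSchurThree
import Cfsg.Agent.Lib.Compute.SchurLie.GTwoThreeSchurTwo
import Cfsg.Agent.Lib.Compute.SchurLie.GTwoThreeActs
import Cfsg.Agent.Lib.Compute.SchurLie.PrimeCover
import Cfsg.Agent.Lib.Compute.Simple
import Cfsg.Agent.Lib.Compute.ActionImage
import Cfsg.Agent.Lib.G2Three.Group
import Cfsg.Agent.Lib.G2Natural.Transport
import Cfsg.Agent.S1059

/-! The Schur multiplier of `G2(3)`. -/

set_option autoImplicit false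

namespace Cfsg.Agent.Lib.Compute.SchurLie

open Cfsg.Agent.Lib
open Cfsg.Agent.Lib.Compute.Schur
open Matrix

local notation "D" => Cfsg.Lie.chevG2

theorem g23_lift_comm :
    Nat.beq ((permOps 9 351).mul (pathEval (permOps 9 351) g23Chain [257, 20, 3, 9]).1
        (pathEval (permOps 9 351) g23Chain [188, 146, 3, 176]).1)
      ((permOps 9 351).mul (pathEval (permOps 9 351) g23Chain [188, 146, 3, 176]).1
        (pathEval (permOps 9 351) g23Chain [257, 20, 3, 9]).1) = true := by decide +kernel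

theorem schur_G23 {F : Type*} [Field F] [Fintype F] (hF : Fintype.card F = 3) :
    Cfsg.HasCyclicSchurMultiplier ↥((D).group F) 3 := by
  haveI : Fact (Nat.Prime 3) := ⟨Nat.prime_three⟩
  haveI : NeZero (3 : ℕ) := ⟨by norm_num⟩
  have hcard : Nat.card ↥((D).group (ZMod 3)) = 4245696 :=
    (S1059.result (ZMod.card 3)).trans (by norm_num)
  let eF : ↥((D).group F) ≃* ↥((D).group (ZMod 3)) := G2Natural.groupMap D
    (FiniteField.ringEquivOfCardEq (hF.trans (ZMod.card 3).symm) : F ≃+* ZMod 3)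
  let Φ := Matrix.reindexAlgEquiv (ZMod 3) (ZMod 3) G2Three.idxEquiv
  have hinv : ∀ r t, G2Three.rootMat r t * G2Three.rootMat r (-t) = 1 := fun r t =>
    Matrix.ext fun i j => g23_rootMat_neg r t (i, j)
  let letter : Fin 12 → ZMod 3 → GL (D).Idx (ZMod 3) := fun r t =>
    Units.map Φ.symm.toMonoidHom
      ⟨G2Three.rootMat r t, G2Three.rootMat r (-t), hinv r t, by simpa using hinv r (-t)⟩
  have hlm : ∀ r t, G2Three.matHom (letter r t) = G2Three.rootMat r t := fun r t =>
    Φ.apply_symm_apply (G2Three.rootMat r t)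
  have hletter : ∀ r t, letter r t ∈ (D).group (ZMod 3) := fun r t =>
    Subgroup.subset_closure ⟨r, t, by
      ext i j
      rw [G2Three.rootMat_eq r t (i, j)]
      rfl⟩
  let gs : List ↥((D).group (ZMod 3)) :=
    List.ofFn fun k : Fin 2 => ((g23Words.getD k []).map fun p => (⟨_, hletter p.1 p.2⟩ : ↥((D).group (ZMod 3)))).prod
  have hmat : ∀ (u : List (Fin 12 × ZMod 3)) (v : G2Three.V),
      G2Three.matHom ((u.map fun p => (⟨_, hletter p.1 p.2⟩ : ↥((D).group (ZMod 3)))).prod : ↥((D).group (ZMod 3))).1 *ᵥ v =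
        g23Apply u v := by
    intro u v
    induction u with
    | nil => simp [g23Apply]
    | cons p u ih =>
      rw [List.map_cons, List.prod_cons, Subgroup.coe_mul, map_mul, ← Matrix.mulVec_mulVec, ih, hlm]
      rfl
  let pts : Fin 351 → Set G2Three.V := fun j => {g23Vec j, -g23Vec j}
  have hinj : Function.Injective pts := fun i j h => by
    have h1 : g23Vec i ∈ pts j := h ▸ Set.mem_insert _ _
    rcases h1 with h1 | h1
    · exact g23_inj i j (Or.inl fun a => congrFun h1 a)
    · exact g23_inj i j (Or.inr fun a => congrFun h1 a)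
  letI : MulAction ↥((D).group (ZMod 3)) (Set G2Three.V) :=
    { smul := fun g s => (fun v => G2Three.matHom g.1 *ᵥ v) '' s
      one_smul := fun s => by
        show (fun v => G2Three.matHom (1 : ↥((D).group (ZMod 3))).1 *ᵥ v) '' s = s
        simp
      mul_smul := fun a b s => by
        show (fun v => G2Three.matHom (a * b).1 *ᵥ v) '' s =
          (fun v => G2Three.matHom a.1 *ᵥ v) '' ((fun v => G2Three.matHom b.1 *ᵥ v) '' s)
        rw [Set.image_image]
        simp [Matrix.mulVec_mulVec] }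
  have hm : 351 ≤ 2 ^ 9 := by norm_num
  have hn : 1404 ≤ 2 ^ 11 := by norm_num
  have hS : GensOK (permCoding 9 (Equiv.refl (Fin 351)) hm) g23Gens := gensOK_literal _ _ g23Gens_ok
  have hX : GensOK (permCoding 11 (Equiv.refl (Fin 1404)) hn) g23CoverGens :=
    gensOK_literal _ _ g23CoverGens_ok
  have hacts : ActsBy 9 pts gs g23Gens := by
    refine ⟨by rw [g23Gens_length]; exact List.length_ofFn, fun k g p hg hp j => ?_⟩
    obtain ⟨hk, rfl⟩ := List.getElem?_eq_some_iff.1 hg
    obtain ⟨hk', rfl⟩ := List.getElem?_eq_some_iff.1 hp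
    have hk2 : k < 2 := lt_of_lt_of_eq hk List.length_ofFn
    obtain ⟨hlt, he⟩ := g23_acts ⟨k, hk2⟩ j
    simp only [List.getD_eq_getElem _ _ hk'] at hlt he
    refine ⟨hlt, ?_⟩
    rw [show gs[k]'hk = _ from List.getElem_ofFn hk]
    show (fun v => _ *ᵥ v) '' ({g23Vec j, -g23Vec j} : Set G2Three.V) = _
    rw [Set.image_pair]
    simp only [Matrix.mulVec_neg]
    rw [hmat]
    rcases he with he | he
    · rw [funext he]
    · rw [show g23Apply (g23Words.getD k []) (g23Vec j) = -g23Vec (getP 9 (g23Gens[k]'hk').1 j) from funext he,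
        neg_neg, Set.pair_comm]
  have hcardH : Nat.card (⊤ : Subgroup ↥((D).group (ZMod 3))) =
      Nat.card (genGroup (permCoding 9 (Equiv.refl (Fin 351)) hm) g23Gens) := by
    rw [card_genGroup _ hS g23Chain_ok, g23Chain_size, Subgroup.card_top, hcard]
  obtain ⟨iso⟩ := nonempty_mulEquiv_genGroup hm ⊤ pts hinj gs (fun _ _ => trivial) hS hacts hcardH
  obtain ⟨τ, hτ, hτcard, hcyc⟩ := exists_prime_cover Nat.prime_three hn hm (o := 1053) (by norm_num)
    hX hS g23Cover_block g23CoverChain_ok g23Chain_ok (by rw [g23CoverChain_size, g23Chain_size])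
    g23Cover_ker g23Cover_lift fun a b => comm_of_codes hm g23_lift_comm a b
  haveI := hcyc
  refine Cfsg.Agent.Lib.Schur.hasSchurMultiplier_congr
    (hasCyclicSchurMultiplier_of_cover _ hS g23Chain_ok g23Chain_size [g23Schur2, g23Schur3] ?_ ?_
      (rest_of_factors [2, 3, 7, 13] (by norm_num) ?_ (by decide +kernel)) τ hτ hτcard)
    ((iso.symm.trans Subgroup.topEquiv).trans eF.symm) (MulEquiv.refl _)
  · rintro A hA
    rcases List.mem_pair.1 hA with rfl | rfl
    · exact ⟨Nat.prime_two, g23Schur2_ok⟩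
    · exact ⟨Nat.prime_three, g23Schur3_ok⟩
  · rintro A hA
    rcases List.mem_pair.1 hA with rfl | rfl <;> decide
  · intro q hq
    fin_cases hq <;> norm_num

end Cfsg.Agent.Lib.Compute.SchurLie
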