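import Mathlib

/-! The 63 non-zero vectors over the field of four elements and generating matrices of `SL(3, 4)`. -/

set_option autoImplicit false

namespace Cfsg.Agent.Lib.Compute.SchurLie

/-- The vectors, with `(a, b)` standing for `a + b w`. -/
def l34Vecs : List (List (ZMod 2 × ZMod 2)) := [[(0, 0), (0, 0), (1, 0)], [(0, 0), (0, 0), (0, 1)], [(0, 0), (0, 0), (1, 1)], [(0, 0), (1, 0), (0, 0)], [(0, 0), (0, 1), (0, 0)], [(0, 0), (1, 1), (0, 0)], [(0, 0), (1, 0), (1, 0)], [(0, 0), (0, 1), (0, 1)], [(0, 0), (1, 1), (1, 1)], [(0, 0), (1, 0), (0, 1)], [(0, 0), (0, 1), (1, 1)], [(0, 0), (1, 1), (1, 0)], [(0, 0), (1, 0), (1, 1)], [(0, 0), (0, 1), (1, 0)], [(0, 0), (1, 1), (0, 1)], [(1, 0), (0, 0), (0, 0)], [(0, 1), (0, 0), (0, 0)], [(1, 1), (0, 0), (0, 0)], [(1, 0), (0, 0), (1, 0)], [(0, 1), (0, 0), (0, 1)], [(1, 1), (0,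 0), (1, 1)], [(1, 0), (0, 0), (0, 1)], [(0, 1), (0, 0), (1, 1)], [(1, 1), (0, 0), (1, 0)], [(1, 0), (0, 0), (1, 1)], [(0, 1), (0, 0), (1, 0)], [(1, 1), (0, 0), (0, 1)], [(1, 0), (1, 0), (0, 0)], [(0, 1), (0, 1), (0, 0)], [(1, 1), (1, 1), (0, 0)], [(1, 0), (1, 0), (1, 0)], [(0, 1), (0, 1), (0, 1)], [(1, 1), (1, 1), (1, 1)], [(1, 0), (1, 0), (0, 1)], [(0, 1), (0, 1), (1, 1)], [(1, 1), (1, 1), (1, 0)], [(1, 0), (1, 0), (1, 1)], [(0, 1), (0, 1), (1, 0)], [(1, 1), (1, 1), (0, 1)], [(1, 0), (0, 1), (0, 0)], [(0, 1), (1, 1), (0, 0)], [(1, 1), (1, 0), (0, 0)], [(1, 0), (0, 1), (1, 0)], [(0, 1), (1, 1), (0, 1)], [(1, 1), (1, 0), (1, 1)], [(1, 0), (0, 1), (0, 1)], [(0, 1), (1, 1), (1, 1)], [(1, 1), (1, 0), (1, 0)], [(1, 0), (0, 1), (1, 1)], [(0, 1), (1, 1), (1, 0)], [(1, 1), (1, 0), (0, 1)], [(1, 0), (1, 1), (0, 0)], [(0, 1), (1,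 0), (0, 0)], [(1, 1), (0, 1), (0, 0)], [(1, 0), (1, 1), (1, 0)], [(0, 1), (1, 0), (0, 1)], [(1, 1), (0, 1), (1, 1)], [(1, 0), (1, 1), (0, 1)], [(0, 1), (1, 0), (1, 1)], [(1, 1), (0, 1), (1, 0)], [(1, 0), (1, 1), (1, 1)], [(0, 1), (1, 0), (1, 0)], [(1, 1), (0, 1), (0, 1)]]

/-- The matrices. -/
def l34Mats : List (List (List (ZMod 2 × ZMod 2))) := [[[(1, 1), (0, 0), (1, 0)], [(1, 1), (1, 0), (0, 0)], [(1, 1), (1, 0), (0, 1)]], [[(1, 1), (0, 0), (1, 1)], [(1, 0), (0, 0), (1, 1)], [(1, 1), (1, 0), (0, 1)]]]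

end Cfsg.Agent.Lib.Compute.SchurLie
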