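import Cfsg.Agent.Lib.Compute.SchurLie.L34Schur
import Cfsg.Agent.Lib.Compute.SchurLie.L34Points
import Cfsg.Agent.Lib.Compute.Simple
import Cfsg.Agent.Lib.Compute.ActionImage
import Cfsg.Agent.Lib.LinGroup.Order

/-! The Schur multiplier of `PSL(3, 4)`. -/

set_option autoImplicit false

namespace Cfsg.Agent.Lib.Compute.SchurLie

open Cfsg.Agent.Lib.Compute.Schur

/-- Product in the model of the field of four elements. -/
def fourMul (x y : ZMod 2 × ZMod 2) : ZMod 2 × ZMod 2 :=
  (x.1 * y.1 + x.2 * y.2, x.1 * y.2 + x.2 * y.1 + x.2 * y.2)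

def l34M (k : Fin 2) (a b : Fin 3) : ZMod 2 × ZMod 2 := ((l34Mats.getD k []).getD a []).getD b 0

def l34V (j : ℕ) (a : Fin 3) : ZMod 2 × ZMod 2 := (l34Vecs.getD j []).getD a 0

theorem l34_acts : ∀ k : Fin 2, ∀ j : Fin 63,
    getP 8 (sl34Gens.getD k (0, 0)).1 j < 63 ∧
    ∀ a : Fin 3, fourMul (l34M k a 0) (l34V j 0) + fourMul (l34M k a 1) (l34V j 1) +
        fourMul (l34M k a 2) (l34V j 2) = l34V (getP 8 (sl34Gens.getD k (0, 0)).1 j) a := by
  decide +kernel

theorem l34_inj : ∀ i j : Fin 63, (∀ a : Fin 3, l34V i a = l34V j a) → i = j := by decide +kernel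

theorem sl34Gens_length : sl34Gens.length = 2 := by decide +kernel

theorem l34_det : ∀ k : Fin 2,
    fourMul (fourMul (l34M k 0 0) (l34M k 1 1)) (l34M k 2 2) +
    fourMul (fourMul (l34M k 0 0) (l34M k 1 2)) (l34M k 2 1) +
    fourMul (fourMul (l34M k 0 1) (l34M k 1 0)) (l34M k 2 2) +
    fourMul (fourMul (l34M k 0 1) (l34M k 1 2)) (l34M k 2 0) +
    fourMul (fourMul (l34M k 0 2) (l34M k 1 0)) (l34M k 2 1) +
    fourMul (fourMul (l34M k 0 2) (l34M k 1 1)) (l34M k 2 0) = (1, 0) := by
  decide +kernel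

theorem four_add_eq_zero : ∀ x y : ZMod 2 × ZMod 2, x + y = 0 → x = y := by decide +kernel

theorem fourMul_inverse : ∀ a : ZMod 2 × ZMod 2, a ≠ 0 → ∃ b, fourMul a b = (1, 0) := by decide +kernel

theorem schur_PSL34 (F : Type*) [Field F] [Fintype F] (hF : Fintype.card F = 4) :
    Cfsg.HasSchurMultiplier (Matrix.ProjectiveSpecialLinearGroup (Fin 3) F)
      (Multiplicative (ZMod 3 × ZMod 4 × ZMod 4)) := by
  haveI : Fact (Nat.Prime 2) := ⟨Nat.prime_two⟩
  haveI : CharP F 2 := charP_of_card_eq_prime_pow (f := 2) (by rw [hF]; norm_num)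
  obtain ⟨ω, hω⟩ : ∃ ω : F, ω * ω = ω + 1 := by
    classical
    have hc : (({0, 1} : Finset F)).card < (Finset.univ : Finset F).card := by
      rw [Finset.card_univ, hF]
      exact lt_of_le_of_lt (Finset.card_le_two) (by norm_num)
    obtain ⟨u, -, hu⟩ := Finset.exists_mem_notMem_of_card_lt_card hc
    simp only [Finset.mem_insert, Finset.mem_singleton, not_or] at hu
    have h3 : u ^ 3 = 1 := by
      have := FiniteField.pow_card_sub_one_eq_one u hu.1
      rwa [hF] at this
    refine ⟨u, ?_⟩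
    have h : (u - 1) * (u * u + u + 1) = 0 := by linear_combination h3
    have := (mul_eq_zero.1 h).resolve_left (sub_ne_zero.2 hu.2)
    linear_combination this - (u + 1) * (CharTwo.two_eq_zero (R := F))
  let φ : ZMod 2 × ZMod 2 → F := fun x =>
    ZMod.castHom (dvd_refl 2) F x.1 + ZMod.castHom (dvd_refl 2) F x.2 * ω
  have φadd : ∀ x y, φ (x + y) = φ x + φ y := fun x y => by
    simp only [φ, Prod.fst_add, Prod.snd_add, map_add]; ring
  have φmul : ∀ x y, φ (fourMul x y) = φ x * φ y := fun x y => by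
    simp only [φ, fourMul, map_add, map_mul]
    linear_combination (-(ZMod.castHom (dvd_refl 2) F x.2 * ZMod.castHom (dvd_refl 2) F y.2)) * hω
  have φone : φ (1, 0) = 1 := by simp [φ]
  have φzero : φ 0 = 0 := by simp [φ]
  have φnz : ∀ a : ZMod 2 × ZMod 2, φ a = 0 → a = 0 := by
    intro a h0
    by_contra ha
    obtain ⟨b, hb⟩ := fourMul_inverse a ha
    have := congrArg φ hb
    rw [φmul, h0, φone, zero_mul] at this
    exact zero_ne_one this
  have φinj : Function.Injective φ := by
    intro x y h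
    exact four_add_eq_zero x y (φnz _ (by rw [φadd, h, CharTwo.add_self_eq_zero]))
  let mat : Fin 2 → Matrix (Fin 3) (Fin 3) F := fun k => Matrix.of fun a b => φ (l34M k a b)
  have hdet : ∀ k, (mat k).det = 1 := by
    intro k
    have h := congrArg φ (l34_det k)
    simp only [φadd, φmul, φone] at h
    rw [Matrix.det_fin_three]
    simp only [mat, Matrix.of_apply, CharTwo.sub_eq_add]
    exact h
  let gs : List (Matrix.SpecialLinearGroup (Fin 3) F) := List.ofFn fun k : Fin 2 => ⟨mat k, hdet k⟩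
  let pts : Fin 63 → (Fin 3 → F) := fun j a => φ (l34V j a)
  have hinj : Function.Injective pts := fun i j h => l34_inj i j fun a => φinj (congrFun h a)
  letI : MulAction (Matrix.SpecialLinearGroup (Fin 3) F) (Fin 3 → F) :=
    MulAction.compHom _ (Matrix.SpecialLinearGroup.toLin' (n := Fin 3) (R := F))
  have hn : 532 ≤ 2 ^ 12 := by norm_num
  have h63 : 63 ≤ 2 ^ 8 := by norm_num
  have h21 : 21 ≤ 2 ^ 8 := by norm_num
  have hS63 : GensOK (permCoding 8 (Equiv.refl (Fin 63)) h63) sl34Gens := gensOK_literal _ _ sl34Gens_ok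
  have hS : GensOK (permCoding 8 (Equiv.refl (Fin 21)) h21) l34Gens := gensOK_literal _ _ l34Gens_ok
  have hX : GensOK (permCoding 12 (Equiv.refl (Fin 532)) hn) l34XGens := gensOK_literal _ _ l34XGens_ok
  have hacts : ActsBy 8 pts gs sl34Gens := by
    refine ⟨by rw [sl34Gens_length]; exact List.length_ofFn, fun k g p hg hp j => ?_⟩
    obtain ⟨hk, rfl⟩ := List.getElem?_eq_some_iff.1 hg
    obtain ⟨hk', rfl⟩ := List.getElem?_eq_some_iff.1 hp
    have hk2 : k < 2 := lt_of_lt_of_eq hk List.length_ofFn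
    obtain ⟨hlt, he⟩ := l34_acts ⟨k, hk2⟩ j
    simp only [List.getD_eq_getElem _ _ hk'] at hlt he
    refine ⟨hlt, ?_⟩
    have hgk : (gs[k]'hk : Matrix (Fin 3) (Fin 3) F) = mat ⟨k, hk2⟩ :=
      congrArg Subtype.val (List.getElem_ofFn hk)
    show Matrix.toLin' (gs[k]'hk : Matrix (Fin 3) (Fin 3) F) (pts j) = _
    rw [hgk, Matrix.toLin'_apply]
    funext a
    have h := congrArg φ (he a)
    simp only [φadd, φmul] at h
    show _ = φ (l34V _ a)
    rw [← h]
    simp [Matrix.mulVec, dotProduct, Fin.sum_univ_three, mat, pts]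
  have hcardSL : Nat.card (Matrix.SpecialLinearGroup (Fin 3) F) = 60480 := by
    have h := Cfsg.Agent.Lib.LinGroup.card_SL_mul (F := F) 3 (by norm_num)
    rw [hF, Fin.prod_univ_three] at h
    norm_num at h
    omega
  have hcardH : Nat.card (⊤ : Subgroup (Matrix.SpecialLinearGroup (Fin 3) F)) =
      Nat.card (genGroup (permCoding 8 (Equiv.refl (Fin 63)) h63) sl34Gens) := by
    rw [card_genGroup _ hS63 sl34Chain_ok, sl34Chain_size, Subgroup.card_top, hcardSL]
  obtain ⟨iso⟩ := nonempty_mulEquiv_genGroup h63 ⊤ pts hinj gs (fun _ _ => trivial) hS63 hacts hcardH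
  have hperf := commutator_eq_top _ hX l34XChain_ok l34XPairs_ok l34XComm_ok
    (l34XComm_size.trans l34XChain_size.symm)
  obtain ⟨τ, hτ, hτc, ⟨eA⟩⟩ := exists_three_cover (Equiv.refl (Fin 21)) (n1 := 3) (n2 := 4) (n3 := 4)
    hn h21 (o := 511) (by norm_num) hX hS l34X_block l34XChain_ok l34Chain_ok
    (by rw [l34XChain_size, l34Chain_size]) l34X_ker
  obtain ⟨τ', hτ', hτ'card, -⟩ := exists_restriction (Equiv.refl (Fin 63)) (k := 16) (by norm_num)
    hn h63 (o := 448) (by norm_num) hX hS63 l34X_block63 l34XChain_ok sl34Chain_ok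
    (by rw [l34XChain_size, sl34Chain_size])
  let toSL := (iso.symm.trans Subgroup.topEquiv)
  let f := (QuotientGroup.mk' (Subgroup.center (Matrix.SpecialLinearGroup (Fin 3) F))).comp
    (toSL.toMonoidHom.comp τ')
  have hf : Function.Surjective f :=
    (QuotientGroup.mk'_surjective _).comp (toSL.surjective.comp hτ')
  have hle : τ.ker ≤ f.ker := by
    intro z hz
    refine (QuotientGroup.eq_one_iff _).2 (Subgroup.mem_center_iff.2 fun g => ?_)
    obtain ⟨x, rfl⟩ := toSL.surjective.comp hτ' g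
    show toSL (τ' x) * toSL (τ' z) = toSL (τ' z) * toSL (τ' x)
    rw [← map_mul, ← map_mul, ← map_mul, ← map_mul, Subgroup.mem_center_iff.1 (hτc hz) x]
  have hcardPSL : Nat.card (Matrix.ProjectiveSpecialLinearGroup (Fin 3) F) = 20160 := by
    have h := Cfsg.Agent.Lib.LinGroup.card_PSL_mul_center (ι := Fin 3) (R := F)
    rw [hcardSL, Cfsg.Agent.Lib.LinGroup.card_center_SL, Fintype.card_fin,
      Cfsg.Agent.Lib.LinGroup.card_units_eq_sub_one, hF] at h
    norm_num at h
    omega
  have heq : τ.ker = f.ker := by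
    refine Subgroup.eq_of_le_of_card_ge hle ?_
    have e1 := Subgroup.card_mul_index f.ker
    rw [Subgroup.index_ker, MonoidHom.range_eq_top.2 hf, Subgroup.card_top,
      card_genGroup _ hX l34XChain_ok, l34XChain_size] at e1
    rw [show Nat.card (Matrix.SpecialLinearGroup (Fin 3) F ⧸ Subgroup.center _) = 20160 from hcardPSL] at e1
    rw [Nat.card_congr eA.toEquiv, Nat.card_congr Multiplicative.toAdd, Nat.card_prod, Nat.card_prod,
      Nat.card_zmod, Nat.card_zmod]
    omega
  let E := (QuotientGroup.quotientKerEquivOfSurjective τ hτ).symm.trans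
    ((QuotientGroup.quotientMulEquivOfEq heq).trans (QuotientGroup.quotientKerEquivOfSurjective f hf))
  refine Cfsg.Agent.Lib.Schur.hasSchurMultiplier_congr (hasSchurMultiplier_of_perfect_cover τ hτ hτc
    hperf (hasCyclicSchurMultiplier_one _ hX l34XChain_ok l34XChain_size [l34XSchur2, l34XSchur3] ?_ ?_
      (rest_of_factors [2, 3, 5, 7] (by norm_num) ?_ (by decide +kernel))) eA) E (MulEquiv.refl _)
  · rintro A hA
    rcases List.mem_pair.1 hA with rfl | rfl
    · exact ⟨Nat.prime_two, l34XSchur2_ok⟩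
    · exact ⟨Nat.prime_three, l34XSchur3_ok⟩
  · rintro A hA
    rcases List.mem_pair.1 hA with rfl | rfl <;> decide
  · intro q hq
    fin_cases hq <;> norm_num

end Cfsg.Agent.Lib.Compute.SchurLie
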