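import Mathlib

/-! Nonsingular vectors and generating commutators of the plus-type orthogonal group in dimension eight over
two elements, for the certificate. -/

set_option autoImplicit false

namespace Cfsg.Agent.Lib.Compute.SchurLie

/-- For each generator: two isometries and their inverses. -/
def o8Mats : List (List (List (List (ZMod 2)))) := [[[[0, 1, 0, 1, 1, 0, 0, 0], [0, 0, 1, 0, 1, 1, 0, 1], [0, 1, 0, 1, 1, 1, 0, 1], [0, 1, 0, 1, 0, 0, 0, 0], [1, 0, 1, 1, 1, 1, 0, 1], [0, 0, 0, 0, 1, 0, 1, 0], [0, 0, 0, 1, 0, 0, 1, 0], [1, 0, 1, 0, 1, 0, 1, 1]], [[1, 1, 1, 0, 0, 1, 1, 1], [0, 1, 1, 0, 0, 0, 0, 0], [0, 1, 0, 0, 1, 0, 0, 0], [0, 1, 0, 1, 0, 0, 0, 0], [0, 1, 1, 0, 1, 0, 0, 0], [1, 1, 1, 1, 0, 1, 0, 1], [0, 0, 1, 1, 0, 1, 1, 1], [0, 0, 1, 0, 1, 0,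 0, 1]], [[1, 1, 0, 1, 1, 1, 1, 0], [1, 0, 0, 0, 0, 1, 1, 0], [0, 1, 1, 1, 0, 0, 0, 0], [1, 0, 0, 1, 0, 1, 1, 0], [1, 0, 0, 1, 0, 0, 0, 0], [0, 0, 0, 0, 1, 0, 1, 1], [1, 0, 0, 1, 0, 1, 0, 0], [1, 0, 1, 0, 1, 0, 1, 1]], [[1, 0, 0, 1, 0, 0, 1, 0], [0, 1, 1, 0, 1, 0, 0, 0], [0, 0, 1, 0, 1, 0, 0, 0], [0, 1, 1, 1, 1, 0, 0, 0], [0, 1, 0, 0, 1, 0, 0, 0], [1, 1, 0, 0, 1, 1, 1, 1], [1, 1, 1, 1, 1, 1, 0, 0], [0, 1, 1, 0, 0, 0, 0, 1]]], [[[0, 0, 0, 0, 0, 0, 0, 1], [1, 0, 1, 0, 1, 1, 1, 0], [0, 0, 0, 0, 1, 1, 1, 0], [1, 0, 1, 0, 1, 0, 1, 1], [0, 1, 1, 1, 0, 1, 0, 1], [0, 1, 1, 0, 1, 0, 0, 1], [1, 0, 0, 0, 0, 0, 1, 1], [0, 1, 1, 0, 1, 1, 1, 1]], [[0, 0, 0, 1, 1, 0, 1, 0], [1, 1, 0, 0, 1, 1, 0, 1], [0, 1, 1, 1, 1, 1, 0, 1], [1, 0, 0, 1, 1, 1, 0, 1], [1, 0, 1, 1, 1, 1,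 0, 1], [0, 1, 1, 0, 0, 0, 0, 1], [0, 1, 0, 0, 1, 0, 0, 0], [0, 1, 1, 1, 0, 0, 1, 1]], [[0, 1, 0, 1, 0, 1, 1, 1], [1, 0, 0, 1, 0, 1, 1, 0], [0, 0, 1, 1, 0, 1, 1, 1], [1, 1, 1, 1, 1, 0, 0, 1], [0, 0, 1, 0, 0, 1, 0, 1], [1, 1, 0, 1, 0, 0, 0, 0], [1, 1, 0, 1, 0, 1, 0, 1], [1, 0, 0, 0, 0, 0, 0, 0]], [[1, 0, 1, 0, 1, 1, 1, 1], [1, 0, 0, 0, 0, 1, 1, 1], [0, 0, 0, 1, 1, 0, 0, 0], [1, 1, 0, 1, 0, 1, 1, 1], [1, 0, 0, 0, 0, 1, 0, 1], [0, 1, 1, 1, 0, 1, 1, 0], [1, 1, 0, 1, 0, 0, 1, 0], [1, 0, 0, 1, 1, 0, 1, 1]]]]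

/-- The vectors as bit masks. -/
def o8Masks : List ℕ := [17, 19, 21, 23, 25, 27, 29, 31, 34, 35, 38, 39, 42, 43, 46, 47, 49, 50, 53, 54, 57, 58, 61, 62, 68, 69, 70, 71, 76, 77, 78, 79, 81, 83, 84, 86, 89, 91, 92, 94, 98, 99, 100, 101, 106, 107, 108, 109, 113, 114, 116, 119, 121, 122, 124, 127, 136, 137, 138, 139, 140, 141, 142, 143, 145, 147, 149, 151, 152, 154, 156, 158, 162, 163, 166, 167, 168, 169, 172, 173, 177, 178, 181, 182, 184, 187, 188, 191, 196, 197, 198, 199, 200, 201, 202, 203, 209, 211, 212, 214, 216, 218, 221, 223, 226, 227, 228, 229, 232, 233, 238, 239, 241, 242, 244, 247, 248, 251, 253, 254]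

end Cfsg.Agent.Lib.Compute.SchurLie
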