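import Cfsg.Agent.Lib.Compute.SchurLie.OPlusEightCoverA
import Cfsg.Agent.Lib.Compute.SchurLie.OPlusEightCoverB
import Cfsg.Agent.Lib.Compute.SchurLie.OPlusEightSchurOdd
import Cfsg.Agent.Lib.Compute.SchurLie.OPlusEightSchurTwo
import Cfsg.Agent.Lib.Compute.SchurLie.OPlusEightPoints
import Cfsg.Agent.Lib.Compute.SchurLie.MultiBound
import Cfsg.Agent.Lib.Compute.Simple
import Cfsg.Agent.Lib.Compute.ActionImage
import Cfsg.Agent.Lib.Classical.Standard
import Cfsg.Agent.Lib.Classical.EichlerStandard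
import Cfsg.Agent.Lib.Forms.Parity
import Cfsg.Agent.Lib.Orth.Basic

/-! The Schur multiplier of the plus-type orthogonal group in dimension eight over two elements. -/

set_option autoImplicit false

namespace Cfsg.Agent.Lib.Compute.SchurLie

open Cfsg.Agent.Lib
open Cfsg.Agent.Lib.Compute.Schur
open scoped Matrix commutatorElement

/-- Position of a coordinate. -/
def eightIx : Fin 4 ⊕ Fin 4 → ℕ
  | .inl i => i.val
  | .inr i => 4 + i.val

/-- One of the four matrices of a generator. -/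
def o8Mat (k : Fin 2) (i : Fin 4) : Matrix (Fin 4 ⊕ Fin 4) (Fin 4 ⊕ Fin 4) (ZMod 2) :=
  Matrix.of fun a b => ((((o8Mats.getD k []).getD i []).getD (eightIx a) []).getD (eightIx b) 0)

/-- The bits of a number. -/
def o8Bits (j : ℕ) (a : Fin 4 ⊕ Fin 4) : ZMod 2 := if j / 2 ^ eightIx a % 2 = 1 then 1 else 0

/-- The point with a given number. -/
def o8Vec (j : ℕ) : Fin 4 ⊕ Fin 4 → ZMod 2 := o8Bits (o8Masks.getD j 0)

theorem o8Mat_inverse : ∀ k : Fin 2, o8Mat k 0 * o8Mat k 2 = 1 ∧ o8Mat k 2 * o8Mat k 0 = 1 ∧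
    o8Mat k 1 * o8Mat k 3 = 1 ∧ o8Mat k 3 * o8Mat k 1 = 1 := by decide +kernel

theorem o8Mat_form : ∀ k : Fin 2, ∀ i : Fin 4, ∀ j : Fin 256,
    (∑ c : Fin 4, (o8Mat k i).mulVec (o8Bits j) (.inl c) * (o8Mat k i).mulVec (o8Bits j) (.inr c)) =
      ∑ c : Fin 4, o8Bits j (.inl c) * o8Bits j (.inr c) := by decide +kernel

theorem o8Bits_surjective : ∀ v : Fin 4 ⊕ Fin 4 → ZMod 2, ∃ j : Fin 256, o8Bits j = v := by
  intro v
  refine ⟨⟨∑ a : Fin 4 ⊕ Fin 4, (v a).val * 2 ^ eightIx a, ?_⟩, ?_⟩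
  all_goals
    revert v
    decide +kernel

theorem o8_acts : ∀ k : Fin 2, ∀ j : Fin 120,
    getP 7 (o8Gens.getD k (0, 0)).1 j < 120 ∧
    ∀ a : Fin 4 ⊕ Fin 4,
      (o8Mat k 0).mulVec ((o8Mat k 1).mulVec ((o8Mat k 2).mulVec ((o8Mat k 3).mulVec (o8Vec j)))) a =
        o8Vec (getP 7 (o8Gens.getD k (0, 0)).1 j) a := by
  decide +kernel

theorem o8_inj : ∀ i j : Fin 120, (∀ a : Fin 4 ⊕ Fin 4, o8Vec i a = o8Vec j a) → i = j := by
  decide +kernel

theorem o8Gens_length : o8Gens.length = 2 := by decide +kernel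

theorem schur_POmegaPlus82 (F : Type*) [Field F] [Fintype F] (hF : Fintype.card F = 2) :
    Cfsg.HasSchurMultiplier (Cfsg.POmega F (Cfsg.quadFormPlus 4 F))
      (Multiplicative (ZMod 2 × ZMod 2)) := by
  haveI : Fact (Nat.Prime 2) := ⟨Nat.prime_two⟩
  haveI : CharP F 2 := charP_of_card_eq_prime hF
  let φ : ZMod 2 →+* F := ZMod.castHom (dvd_refl 2) F
  have hφ : Function.Bijective φ :=
    (Fintype.bijective_iff_injective_and_card _).2 ⟨φ.injective, by rw [hF]; rfl⟩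
  have hlift : ∀ v : Fin 4 ⊕ Fin 4 → F, ∃ j : Fin 256, v = φ ∘ o8Bits j := fun v => by
    choose w hw using fun a => hφ.2 (v a)
    obtain ⟨j, hj⟩ := o8Bits_surjective w
    exact ⟨j, funext fun a => by rw [Function.comp_apply, hj, hw]⟩
  have hmul : ∀ (M : Matrix (Fin 4 ⊕ Fin 4) (Fin 4 ⊕ Fin 4) (ZMod 2)) (v : Fin 4 ⊕ Fin 4 → ZMod 2),
      (M.map φ).mulVec (φ ∘ v) = φ ∘ M.mulVec v := fun M v =>
    funext fun a => (RingHom.map_mulVec φ M v a).symm
  have hinvm : ∀ {A B : Matrix (Fin 4 ⊕ Fin 4) (Fin 4 ⊕ Fin 4) (ZMod 2)}, A * B = 1 →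
      A.map φ * B.map φ = 1 := fun h => by
    rw [← Matrix.map_mul, h, Matrix.map_one _ (map_zero φ) (map_one φ)]
  let gl : Fin 2 → Bool → Matrix.GeneralLinearGroup (Fin 4 ⊕ Fin 4) F := fun k b =>
    bif b then ⟨(o8Mat k 1).map φ, (o8Mat k 3).map φ, hinvm (o8Mat_inverse k).2.2.1,
      hinvm (o8Mat_inverse k).2.2.2⟩
    else ⟨(o8Mat k 0).map φ, (o8Mat k 2).map φ, hinvm (o8Mat_inverse k).1, hinvm (o8Mat_inverse k).2.1⟩
  have hmem : ∀ k b, gl k b ∈ Cfsg.isometryGroup F (Cfsg.quadFormPlus 4 F) := by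
    intro k b u _
    obtain ⟨j, rfl⟩ := hlift u
    obtain ⟨i, hi⟩ : ∃ i : Fin 4, (gl k b).val = (o8Mat k i).map φ := by
      cases b
      · exact ⟨0, rfl⟩
      · exact ⟨1, rfl⟩
    show Cfsg.quadFormPlus 4 F ((gl k b).val.mulVec _) = _
    rw [hi, hmul]
    simp only [Cfsg.quadFormPlus, Function.comp_apply, ← map_mul, ← map_sum, o8Mat_form k i j]
  let el : Fin 2 → Bool → Cfsg.isometryGroup F (Cfsg.quadFormPlus 4 F) := fun k b => ⟨gl k b, hmem k b⟩
  let gs : List (Cfsg.isometryGroup F (Cfsg.quadFormPlus 4 F)) :=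
    List.ofFn fun k : Fin 2 => ⁅el k false, el k true⁆
  let pts : Fin 120 → (Fin 4 ⊕ Fin 4 → F) := fun j => φ ∘ o8Vec j
  have hinj : Function.Injective pts := fun i j h => o8_inj i j fun a => hφ.1 (congrFun h a)
  letI : MulAction (Cfsg.isometryGroup F (Cfsg.quadFormPlus 4 F)) (Fin 4 ⊕ Fin 4 → F) :=
    { smul := fun g v => g.1.val.mulVec v
      one_smul := fun v => Matrix.one_mulVec v
      mul_smul := fun a b v => (Matrix.mulVec_mulVec v a.1.val b.1.val).symm }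
  have hm : 120 ≤ 2 ^ 7 := by norm_num
  have hn : 360 ≤ 2 ^ 9 := by norm_num
  have hS : GensOK (permCoding 7 (Equiv.refl (Fin 120)) hm) o8Gens := gensOK_literal _ _ o8Gens_ok
  have hA : GensOK (permCoding 9 (Equiv.refl (Fin 360)) hn) o8CoverAGens :=
    gensOK_literal _ _ o8CoverAGens_ok
  have hB : GensOK (permCoding 9 (Equiv.refl (Fin 360)) hn) o8CoverBGens :=
    gensOK_literal _ _ o8CoverBGens_ok
  have hacts : ActsBy 7 pts gs o8Gens := by
    refine ⟨by rw [o8Gens_length]; exact List.length_ofFn, fun k g p hg hp j => ?_⟩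
    obtain ⟨hk, rfl⟩ := List.getElem?_eq_some_iff.1 hg
    obtain ⟨hk', rfl⟩ := List.getElem?_eq_some_iff.1 hp
    have hk2 : k < 2 := lt_of_lt_of_eq hk List.length_ofFn
    obtain ⟨hlt, he⟩ := o8_acts ⟨k, hk2⟩ j
    simp only [List.getD_eq_getElem _ _ hk'] at hlt he
    refine ⟨hlt, ?_⟩
    have hgk : gs[k]'hk = ⁅el ⟨k, hk2⟩ false, el ⟨k, hk2⟩ true⁆ := List.getElem_ofFn hk
    rw [hgk, commutatorElement_def, mul_smul, mul_smul, mul_smul]
    show ((o8Mat _ 0).map φ).mulVec (((o8Mat _ 1).map φ).mulVec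
      (((o8Mat _ 2).map φ).mulVec (((o8Mat _ 3).map φ).mulVec (φ ∘ o8Vec j)))) = _
    rw [hmul, hmul, hmul, hmul]
    funext a
    exact congrArg φ (he a)
  have hidx : (Cfsg.Omega F (Cfsg.quadFormPlus 4 F)).index = 2 := by
    rw [← Classical.coe_plusForm]
    exact Forms.index_Omega_char_two
      ((Classical.plusModel 1).nondegenerate
        (Classical.isotropicNondeg_hypTower Classical.nondeg_zero_fin 1))
      (Or.inr (by decide)) (by decide)
  have hcardH : Nat.card (Cfsg.Omega F (Cfsg.quadFormPlus 4 F)) =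
      Nat.card (genGroup (permCoding 7 (Equiv.refl (Fin 120)) hm) o8Gens) := by
    have hO := (Cfsg.Omega F (Cfsg.quadFormPlus 4 F)).card_mul_index
    rw [hidx, Classical.natCard_isometryGroup_plus 3, Nat.card_eq_fintype_card (α := F), hF,
      Finset.prod_range_succ, Finset.prod_range_succ, Finset.prod_range_one] at hO
    rw [card_genGroup _ hS o8Chain_ok, o8Chain_size]
    norm_num at hO
    omega
  have hgs : ∀ g ∈ gs, g ∈ Cfsg.Omega F (Cfsg.quadFormPlus 4 F) := fun g hg => by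
    obtain ⟨k, rfl⟩ := (List.mem_ofFn' _ _).1 hg
    exact Subgroup.commutator_mem_commutator (Subgroup.mem_top _) (Subgroup.mem_top _)
  obtain ⟨iso⟩ := nonempty_mulEquiv_genGroup hm _ pts hinj gs hgs hS hacts hcardH
  have hz : Subgroup.center (Cfsg.Omega F (Cfsg.quadFormPlus 4 F)) = ⊥ := by
    rw [← Classical.coe_plusForm]
    exact Subgroup.card_eq_one.1 (((Classical.plusModel 1).natCard_center
      (Classical.isotropicNondeg_hypTower Classical.nondeg_zero_fin 1)).2 (Or.inl CharTwo.two_eq_zero))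
  obtain ⟨τ₁, s₁, k₁, p₁⟩ := exists_restriction_spec (Equiv.refl (Fin 120)) (k := 2) (o := 240)
    two_pos hn hm (by norm_num) hA hS o8CoverA_block o8CoverAChain_ok o8Chain_ok
    (by rw [o8CoverAChain_size, o8Chain_size])
  obtain ⟨τ₂, s₂, k₂, p₂⟩ := exists_restriction_spec (Equiv.refl (Fin 120)) (k := 2) (o := 240)
    two_pos hn hm (by norm_num) hB hS o8CoverB_block o8CoverBChain_ok o8Chain_ok
    (by rw [o8CoverBChain_size, o8Chain_size])
  obtain ⟨a, a', ea, ea', ha⟩ := exists_lift_comm hn hm hA o8CoverAChain_ok hS o8Chain_ok τ₁ p₁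
    o8CoverA_liftOne
  obtain ⟨b, b', eb, eb', hb⟩ := exists_lift_comm hn hm hB o8CoverBChain_ok hS o8Chain_ok τ₂ p₂
    o8CoverB_liftOne
  obtain ⟨c, c', ec, ec', hc⟩ := exists_lift_comm hn hm hA o8CoverAChain_ok hS o8Chain_ok τ₁ p₁
    o8CoverA_liftTwo
  obtain ⟨d, d', ed, ed', hd⟩ := exists_lift_comm hn hm hB o8CoverBChain_ok hS o8Chain_ok τ₂ p₂
    o8CoverB_liftTwo
  have heq : ∀ {x y : genGroup (permCoding 7 (Equiv.refl (Fin 120)) hm) o8Gens} {code : ℕ},
      (permCoding 7 (Equiv.refl (Fin 120)) hm).enc (x : Equiv.Perm (Fin 120)) = code →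
      (permCoding 7 (Equiv.refl (Fin 120)) hm).enc (y : Equiv.Perm (Fin 120)) = code → x = y :=
    fun e e' => Subtype.ext ((permCoding 7 (Equiv.refl (Fin 120)) hm).inj (e.trans e'.symm))
  haveI : NeZero o8Schur2Part.r := ⟨by decide⟩
  refine Cfsg.Agent.Lib.Schur.hasSchurMultiplier_congr
    (hasSchurMultiplier_four τ₁ s₁ k₁ τ₂ s₂ k₂ a a' b b' (heq ea eb) (heq ea' eb')
      (fun e => Bool.false_ne_true (ha.1 e)) (hb.2 rfl) c c' d d' (heq ec ed) (heq ec' ed') (hc.2 rfl)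
      (fun e => Bool.false_ne_true (hd.1 e)) fun Y _ τ h1 h2 => ?_)
    (iso.symm.trans (QuotientGroup.quotientBot.symm.trans (QuotientGroup.quotientMulEquivOfEq hz.symm)))
    (MulEquiv.refl _)
  refine (card_ker_inf_le_of_cert _ hS o8Chain_ok o8Chain_size o8Schur2Part Nat.prime_two
    o8Schur2_ok [o8Schur3, o8Schur5] ?_ (fun q hq hd' => ?_) τ h1 h2).trans (le_of_eq (by decide))
  · rintro B hB
    rcases List.mem_pair.1 hB with rfl | rfl
    · exact ⟨Nat.prime_three, o8Schur3_ok, rfl⟩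
    · exact ⟨Nat.prime_five, o8Schur5_ok, rfl⟩
  · have hfac : q ∣ 2 * 3 * 5 * 7 := by
      have h6 : q ∣ (2 * 3 * 5 * 7) ^ 12 := ((dvd_pow_self q two_ne_zero).trans hd').trans (by norm_num)
      exact hq.dvd_of_dvd_pow h6
    have : q ≤ 210 := Nat.le_of_dvd (by norm_num) hfac
    rcases (Nat.Prime.dvd_mul hq).1 hfac with hq1 | hq1
    · rcases (Nat.Prime.dvd_mul hq).1 hq1 with hq2 | hq2
      · rcases (Nat.Prime.dvd_mul hq).1 hq2 with hq3 | hq3
        · exact Or.inl ((Nat.prime_dvd_prime_iff_eq hq Nat.prime_two).1 hq3)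
        · exact Or.inr ⟨o8Schur3, List.mem_cons_self .., ((Nat.prime_dvd_prime_iff_eq hq Nat.prime_three).1 hq3).symm⟩
      · exact Or.inr ⟨o8Schur5, by simp, ((Nat.prime_dvd_prime_iff_eq hq Nat.prime_five).1 hq2).symm⟩
    · rw [(Nat.prime_dvd_prime_iff_eq hq (by norm_num)).1 hq1] at hd'; norm_num at hd'

end Cfsg.Agent.Lib.Compute.SchurLie
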