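import Cfsg.Agent.Lib.Compute.SchurLie.FourCover

/-!
# A multiplier `3 × 2 × 2` from a triple cover and two double covers
-/

set_option autoImplicit false

namespace Cfsg.Agent.Lib.Compute.Schur

open Subgroup
open scoped commutatorElement

universe u v w x

/-- Two double covers separated by two commuting pairs, a perfect triple cover and the bound twelve on
all central extensions give `3 × 2 × 2` as multiplier. -/
theorem hasSchurMultiplier_three_four {Q : Type u} [Group Q] [Finite Q] {X₁ : Type v} [Group X₁]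
    {X₂ : Type w} [Group X₂] {X₃ : Type x} [Group X₃] (τ₁ : X₁ →* Q) (hτ₁ : Function.Surjective τ₁)
    (hk₁ : Nat.card τ₁.ker = 2) (τ₂ : X₂ →* Q) (hτ₂ : Function.Surjective τ₂)
    (hk₂ : Nat.card τ₂.ker = 2) (τ₃ : X₃ →* Q) (hτ₃ : Function.Surjective τ₃)
    (hc₃ : τ₃.ker ≤ center X₃) (hk₃ : Nat.card τ₃.ker = 3) (hperf₃ : commutator X₃ = ⊤)
    (a a' : X₁) (b b' : X₂) (hab : τ₁ a = τ₂ b) (hab' : τ₁ a' = τ₂ b')
    (hna : ¬ a * a' = a' * a) (hb : b * b' = b' * b)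
    (c c' : X₁) (d d' : X₂) (hcd : τ₁ c = τ₂ d) (hcd' : τ₁ c' = τ₂ d')
    (hc : c * c' = c' * c) (hnd : ¬ d * d' = d' * d)
    (hbound : ∀ (Y : Type u) [Group Y] (τ : Y →* Q), Function.Surjective τ → τ.ker ≤ center Y →
      Nat.card (τ.ker ⊓ commutator Y : Subgroup Y) ≤ 12) :
    Cfsg.HasSchurMultiplier Q (Multiplicative (ZMod 3 × ZMod 2 × ZMod 2)) := by
  haveI := Fact.mk Nat.prime_two
  haveI := Fact.mk Nat.prime_three
  let P : Subgroup (X₁ × X₂) :=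
    (τ₁.comp (MonoidHom.fst X₁ X₂)).eqLocus (τ₂.comp (MonoidHom.snd X₁ X₂))
  let σ₀ : P →* Q := (τ₁.comp (MonoidHom.fst X₁ X₂)).comp P.subtype
  let Y : Subgroup (P × X₃) := (σ₀.comp (MonoidHom.fst P X₃)).eqLocus (τ₃.comp (MonoidHom.snd P X₃))
  let σ : Y →* Q := (σ₀.comp (MonoidHom.fst P X₃)).comp Y.subtype
  let π₁ : Y →* X₁ := ((MonoidHom.fst X₁ X₂).comp P.subtype).comp ((MonoidHom.fst P X₃).comp Y.subtype)
  let π₂ : Y →* X₂ := ((MonoidHom.snd X₁ X₂).comp P.subtype).comp ((MonoidHom.fst P X₃).comp Y.subtype)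
  let π₃ : Y →* X₃ := (MonoidHom.snd P X₃).comp Y.subtype
  have e₁ : ∀ y : Y, τ₁ (π₁ y) = σ y := fun y => rfl
  have e₂ : ∀ y : Y, τ₂ (π₂ y) = σ y := fun y => (y.1.1.2).symm
  have e₃ : ∀ y : Y, τ₃ (π₃ y) = σ y := fun y => (y.2).symm
  have hlift : ∀ (u : X₁) (v : X₂), τ₁ u = τ₂ v → ∃ y : Y, π₁ y = u ∧ π₂ y = v := fun u v h => by
    obtain ⟨z, hz⟩ := hτ₃ (τ₁ u)
    exact ⟨⟨(⟨(u, v), h⟩, z), hz.symm⟩, rfl, rfl⟩
  have hπ₃ : Function.Surjective π₃ := fun z => by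
    obtain ⟨u, hu⟩ := hτ₁ (τ₃ z)
    obtain ⟨v, hv⟩ := hτ₂ (τ₃ z)
    exact ⟨⟨(⟨(u, v), hu.trans hv.symm⟩, z), hu⟩, rfl⟩
  have hσ : Function.Surjective σ := fun q => by
    obtain ⟨z, hz⟩ := hτ₃ q
    obtain ⟨y, rfl⟩ := hπ₃ z
    exact ⟨y, (e₃ y).symm.trans hz⟩
  have h₁ := ker_le_center_of_card_two τ₁ hk₁
  have h₂ := ker_le_center_of_card_two τ₂ hk₂
  have hσc : σ.ker ≤ center Y := by
    intro z hz
    have hz : σ z = 1 := hz
    refine mem_center_iff.2 fun g => Subtype.ext (Prod.ext (Subtype.ext (Prod.ext ?_ ?_)) ?_)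
    · exact mem_center_iff.1 (h₁ (show τ₁ (π₁ z) = 1 by rw [e₁, hz])) (π₁ g)
    · exact mem_center_iff.1 (h₂ (show τ₂ (π₂ z) = 1 by rw [e₂, hz])) (π₂ g)
    · exact mem_center_iff.1 (hc₃ (show τ₃ (π₃ z) = 1 by rw [e₃, hz])) (π₃ g)
  let H : Subgroup Y := σ.ker ⊓ commutator Y
  let p₁ : H →* τ₁.ker := (π₁.comp H.subtype).codRestrict _ fun z =>
    show τ₁ (π₁ z.1) = 1 by rw [e₁]; exact z.2.1
  let p₂ : H →* τ₂.ker := (π₂.comp H.subtype).codRestrict _ fun z =>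
    show τ₂ (π₂ z.1) = 1 by rw [e₂]; exact z.2.1
  let p₃ : H →* τ₃.ker := (π₃.comp H.subtype).codRestrict _ fun z =>
    show τ₃ (π₃ z.1) = 1 by rw [e₃]; exact z.2.1
  haveI : IsCyclic τ₁.ker := isCyclic_of_prime_card hk₁
  haveI : IsCyclic τ₂.ker := isCyclic_of_prime_card hk₂
  haveI : IsCyclic τ₃.ker := isCyclic_of_prime_card hk₃
  let f₁ : τ₁.ker ≃* Multiplicative (ZMod 2) := mulEquivOfCyclicCardEq (by rw [hk₁]; simp)
  let f₂ : τ₂.ker ≃* Multiplicative (ZMod 2) := mulEquivOfCyclicCardEq (by rw [hk₂]; simp)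
  let f₃ : τ₃.ker ≃* Multiplicative (ZMod 3) := mulEquivOfCyclicCardEq (by rw [hk₃]; simp)
  let g₂ : H →* Multiplicative (ZMod 2 × ZMod 2) :=
    (MulEquiv.prodMultiplicative (ZMod 2) (ZMod 2)).symm.toMonoidHom.comp
      ((f₁.toMonoidHom.comp p₁).prod (f₂.toMonoidHom.comp p₂))
  let g : H →* Multiplicative (ZMod 3 × ZMod 2 × ZMod 2) :=
    (MulEquiv.prodMultiplicative (ZMod 3) (ZMod 2 × ZMod 2)).symm.toMonoidHom.comp
      ((f₃.toMonoidHom.comp p₃).prod g₂)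
  have wit : ∀ (s s' : X₁) (t t' : X₂), τ₁ s = τ₂ t → τ₁ s' = τ₂ t' →
      τ₁ ⁅s, s'⁆ = 1 → ∃ z : H, (p₁ z : X₁) = ⁅s, s'⁆ ∧ (p₂ z : X₂) = ⁅t, t'⁆ := by
    intro s s' t t' hst hst' h1
    obtain ⟨y, rfl, rfl⟩ := hlift s t hst
    obtain ⟨y', rfl, rfl⟩ := hlift s' t' hst'
    refine ⟨⟨⁅y, y'⁆, ?_, commutator_mem_commutator (mem_top _) (mem_top _)⟩, ?_, ?_⟩
    · show σ ⁅y, y'⁆ = 1
      rw [← e₁, map_commutatorElement]
      exact h1
    · exact map_commutatorElement π₁ y y'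
    · exact map_commutatorElement π₂ y y'
  have e0 : τ₁ ⁅a, a'⁆ = 1 := by
    rw [map_commutatorElement, hab, hab', ← map_commutatorElement,
      commutatorElement_eq_one_iff_mul_comm.2 hb, map_one]
  obtain ⟨z, z1, z2⟩ := wit a a' b b' hab hab' e0
  obtain ⟨y, y1, y2⟩ := wit c c' d d' hcd hcd'
    (by rw [commutatorElement_eq_one_iff_mul_comm.2 hc, map_one])
  rw [commutatorElement_eq_one_iff_mul_comm.2 hb] at z2
  rw [commutatorElement_eq_one_iff_mul_comm.2 hc] at y1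
  have hz1 : p₁ z ≠ 1 := fun e => hna (commutatorElement_eq_one_iff_mul_comm.1
    (z1.symm.trans (congrArg Subtype.val e)))
  have hy2 : p₂ y ≠ 1 := fun e => hnd (commutatorElement_eq_one_iff_mul_comm.1
    (y2.symm.trans (congrArg Subtype.val e)))
  have hz2 : p₂ z = 1 := Subtype.ext z2
  have hy1 : p₁ y = 1 := Subtype.ext y1
  have hg₂ : Function.Surjective g₂ := by
    intro q
    obtain ⟨⟨s, t⟩, rfl⟩ := (MulEquiv.prodMultiplicative (ZMod 2) (ZMod 2)).symm.surjective q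
    have n1 : f₁ (p₁ z) ≠ 1 := by simpa using hz1
    have n2 : f₂ (p₂ y) ≠ 1 := by simpa using hy2
    rcases eq_one_or_eq_of_ne_one _ s n1 with rfl | rfl <;>
      rcases eq_one_or_eq_of_ne_one _ t n2 with rfl | rfl
    · exact ⟨1, by simp [g₂]⟩
    · exact ⟨y, by simp [g₂, hy1]⟩
    · exact ⟨z, by simp [g₂, hz2]⟩
    · exact ⟨z * y, by simp [g₂, hy1, hz2]⟩
  have hp₃ : Function.Surjective p₃ := by
    rintro ⟨k, hk⟩
    have hmap : (commutator Y).map π₃ = commutator X₃ := by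
      rw [_root_.commutator_def, _root_.commutator_def, map_commutator, ← MonoidHom.range_eq_map,
        MonoidHom.range_eq_top.2 hπ₃]
    have hk' : k ∈ (commutator Y).map π₃ := by rw [hmap, hperf₃]; trivial
    obtain ⟨w, hw, rfl⟩ := hk'
    exact ⟨⟨w, (e₃ w).symm.trans hk, hw⟩, rfl⟩
  have hg : Function.Surjective g := by
    haveI : Finite Q := ‹_›
    have h4 : 4 ∣ Nat.card g.range := by
      let pr : Multiplicative (ZMod 3 × ZMod 2 × ZMod 2) →* Multiplicative (ZMod 2 × ZMod 2) :=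
        (MonoidHom.snd _ _).comp (MulEquiv.prodMultiplicative (ZMod 3) (ZMod 2 × ZMod 2)).toMonoidHom
      have hs : Function.Surjective (pr.comp g.range.subtype) := fun q => by
        obtain ⟨h, rfl⟩ := hg₂ q
        exact ⟨⟨g h, h, rfl⟩, rfl⟩
      have := Subgroup.card_dvd_of_surjective (pr.comp g.range.subtype) hs
      simpa [Nat.card_eq_fintype_card] using this
    have h3 : 3 ∣ Nat.card g.range := by
      let pr : Multiplicative (ZMod 3 × ZMod 2 × ZMod 2) →* Multiplicative (ZMod 3) :=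
        (MonoidHom.fst _ _).comp (MulEquiv.prodMultiplicative (ZMod 3) (ZMod 2 × ZMod 2)).toMonoidHom
      have hs : Function.Surjective (pr.comp g.range.subtype) := fun q => by
        obtain ⟨k, rfl⟩ := f₃.surjective q
        obtain ⟨h, rfl⟩ := hp₃ k
        exact ⟨⟨g h, h, rfl⟩, rfl⟩
      have := Subgroup.card_dvd_of_surjective (pr.comp g.range.subtype) hs
      simpa using this
    rw [← MonoidHom.range_eq_top]
    refine Subgroup.eq_top_of_le_card _ ?_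
    have h12 : Nat.card (Multiplicative (ZMod 3 × ZMod 2 × ZMod 2)) = 12 := by
      simp [Nat.card_eq_fintype_card]
    rw [h12]
    exact Nat.le_of_dvd Nat.card_pos (Nat.Coprime.mul_dvd_of_dvd_of_dvd (by norm_num : Nat.Coprime 3 4) h3 h4)
  refine Cfsg.Agent.Lib.Schur.hasSchurMultiplier_of_bound σ hσ hσc g hg fun Y' _ τ h h' => ?_
  refine (hbound Y' τ h h').trans ?_
  simp [Nat.card_eq_fintype_card]

end Cfsg.Agent.Lib.Compute.Schur
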