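import Mathlib

/-! Points and generating matrices of `Sp(6, 2)` for the certificate. -/

set_option autoImplicit false

namespace Cfsg.Agent.Lib.Compute.SchurLie

/-- The generators. -/
def sp62Mats : List (List (List (ZMod 2))) := [[[0, 0, 0, 1, 1, 1], [1, 1, 0, 1, 0, 0], [1, 0, 1, 1, 0, 1], [1, 1, 1, 1, 0, 1], [1, 0, 1, 0, 0, 0], [0, 1, 1, 1, 1, 1]], [[0, 1, 0, 1, 1, 0], [1, 1, 0, 0, 0, 0], [0, 0, 1, 0, 0, 1], [0, 1, 0, 0, 0, 0], [1, 1, 0, 1, 0, 0], [0, 0, 0, 0, 0, 1]]]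

end Cfsg.Agent.Lib.Compute.SchurLie
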