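import Cfsg.Agent.Lib.Compute.SchurLie.SpSixCover
import Cfsg.Agent.Lib.Compute.SchurLie.SpSixPoints
import Cfsg.Agent.Lib.Compute.Simple
import Cfsg.Agent.Lib.Compute.ActionImage
import Cfsg.Agent.Lib.Classical.Symplectic

/-! The Schur multiplier of `PSp(6, 2)`. -/

set_option autoImplicit false

namespace Cfsg.Agent.Lib.Compute.SchurLie

open Cfsg.Agent.Lib.Compute.Schur
open scoped Matrix

/-- Position of a coordinate. -/
def sixIx : Fin 3 ⊕ Fin 3 → ℕ
  | .inl i => i.val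
  | .inr i => 3 + i.val

def sp62Mat (k : Fin 2) : Matrix (Fin 3 ⊕ Fin 3) (Fin 3 ⊕ Fin 3) (ZMod 2) :=
  Matrix.of fun a b => ((sp62Mats.getD k []).getD (sixIx a) []).getD (sixIx b) 0

def sp62Vec (j : ℕ) (a : Fin 3 ⊕ Fin 3) : ZMod 2 := if (j + 1) / 2 ^ sixIx a % 2 = 1 then 1 else 0

theorem sp62_symp : ∀ k : Fin 2,
    sp62Mat k * Matrix.J (Fin 3) (ZMod 2) * (sp62Mat k).transpose = Matrix.J (Fin 3) (ZMod 2) := by
  decide +kernel

theorem sp62_acts : ∀ k : Fin 2, ∀ j : Fin 63,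
    getP 8 (sp62Gens.getD k (0, 0)).1 j < 63 ∧
    ∀ a : Fin 3 ⊕ Fin 3,
      (sp62Mat k).mulVec (sp62Vec j) a = sp62Vec (getP 8 (sp62Gens.getD k (0, 0)).1 j) a := by
  decide +kernel

theorem sp62_inj : ∀ i j : Fin 63, (∀ a : Fin 3 ⊕ Fin 3, sp62Vec i a = sp62Vec j a) → i = j := by
  decide +kernel

theorem sp62Gens_length : sp62Gens.length = 2 := by decide +kernel

theorem schur_PSp62 (F : Type*) [Field F] [Fintype F] (hF : Fintype.card F = 2) :
    Cfsg.HasCyclicSchurMultiplier (Cfsg.PSp 3 F) 2 := by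
  haveI : Fact (Nat.Prime 2) := ⟨Nat.prime_two⟩
  haveI : CharP F 2 := charP_of_card_eq_prime hF
  let φ : ZMod 2 →+* F := ZMod.castHom (dvd_refl 2) F
  have hφ : Function.Injective φ := φ.injective
  have hmem : ∀ k : Fin 2, (sp62Mat k).map φ ∈ Matrix.symplecticGroup (Fin 3) F := by
    intro k
    rw [SymplecticGroup.mem_iff]
    have hJ : (Matrix.J (Fin 3) (ZMod 2)).map φ = Matrix.J (Fin 3) F := by
      rw [Matrix.J, Matrix.J, Matrix.fromBlocks_map,
        show (-1 : Matrix (Fin 3) (Fin 3) (ZMod 2)).map φ = -1 by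
          ext a b
          by_cases hab : a = b <;> simp [hab, CharTwo.neg_eq]]
      simp
    rw [← hJ, ← Matrix.transpose_map, ← Matrix.map_mul, ← Matrix.map_mul,
      sp62_symp k]
  let gs : List (Matrix.symplecticGroup (Fin 3) F) := List.ofFn fun k : Fin 2 => ⟨_, hmem k⟩
  let pts : Fin 63 → (Fin 3 ⊕ Fin 3 → F) := fun j => φ ∘ sp62Vec j
  have hinj : Function.Injective pts := fun i j h => sp62_inj i j fun a => hφ (congrFun h a)
  letI : MulAction (Matrix.symplecticGroup (Fin 3) F) (Fin 3 ⊕ Fin 3 → F) :=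
    { smul := fun g v => (g : Matrix (Fin 3 ⊕ Fin 3) (Fin 3 ⊕ Fin 3) F).mulVec v
      one_smul := fun v => Matrix.one_mulVec v
      mul_smul := fun a b v => (Matrix.mulVec_mulVec v _ _).symm }
  have hn : 303 ≤ 2 ^ 12 := by norm_num
  have hm : 63 ≤ 2 ^ 8 := by norm_num
  have hS : GensOK (permCoding 8 (Equiv.refl (Fin 63)) hm) sp62Gens := gensOK_literal _ _ sp62Gens_ok
  have hX : GensOK (permCoding 12 (Equiv.refl (Fin 303)) hn) sp62CoverGens :=
    gensOK_literal _ _ sp62CoverGens_ok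
  have hacts : ActsBy 8 pts gs sp62Gens := by
    refine ⟨by rw [sp62Gens_length]; exact List.length_ofFn, fun k g p hg hp j => ?_⟩
    obtain ⟨hk, rfl⟩ := List.getElem?_eq_some_iff.1 hg
    obtain ⟨hk', rfl⟩ := List.getElem?_eq_some_iff.1 hp
    have hk2 : k < 2 := lt_of_lt_of_eq hk List.length_ofFn
    obtain ⟨hlt, he⟩ := sp62_acts ⟨k, hk2⟩ j
    simp only [List.getD_eq_getElem _ _ hk'] at hlt he
    refine ⟨hlt, ?_⟩
    have hgk : (gs[k]'hk : Matrix (Fin 3 ⊕ Fin 3) (Fin 3 ⊕ Fin 3) F) = (sp62Mat ⟨k, hk2⟩).map φ :=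
      congrArg Subtype.val (List.getElem_ofFn hk)
    show (gs[k]'hk : Matrix (Fin 3 ⊕ Fin 3) (Fin 3 ⊕ Fin 3) F).mulVec (φ ∘ sp62Vec j) = _
    rw [hgk]
    funext a
    rw [← RingHom.map_mulVec, he a]
    rfl
  have hz : Subgroup.center (Matrix.symplecticGroup (Fin 3) F) = ⊥ := by
    refine Subgroup.card_eq_one.1 ?_
    rw [Cfsg.Agent.Lib.Classical.natCard_center_symplecticGroup 3 (by norm_num), hF]
    rfl
  have hcardH : Nat.card (⊤ : Subgroup (Matrix.symplecticGroup (Fin 3) F)) =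
      Nat.card (genGroup (permCoding 8 (Equiv.refl (Fin 63)) hm) sp62Gens) := by
    rw [card_genGroup _ hS sp62Chain_ok, sp62Chain_size, Subgroup.card_top,
      Cfsg.Agent.Lib.Classical.natCard_symplecticGroup 3, Nat.card_eq_fintype_card, hF,
      Finset.prod_range_succ, Finset.prod_range_succ, Finset.prod_range_one]
    norm_num
  obtain ⟨iso⟩ := nonempty_mulEquiv_genGroup hm ⊤ pts hinj gs (fun _ _ => trivial) hS hacts hcardH
  have hperf := commutator_eq_top _ hX sp62CoverChain_ok sp62CoverPairs_ok sp62CoverComm_ok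
    (sp62CoverComm_size.trans sp62CoverChain_size.symm)
  obtain ⟨τ, hτ, hcard, hcyc⟩ := exists_central_cover (Equiv.refl (Fin 63)) (k := 2) (by norm_num) hn hm
    (o := 240) (by norm_num) hX hS sp62Cover_block sp62CoverChain_ok sp62Chain_ok
    (by rw [sp62CoverChain_size, sp62Chain_size]) sp62Cover_ker hperf
  haveI := hcyc
  refine hasCyclicSchurMultiplier_of_mulEquiv (hasCyclicSchurMultiplier_of_cover _ hS sp62Chain_ok
    sp62Chain_size [sp62Schur2, sp62Schur3] ?_ ?_ (rest_of_factors [2, 3, 5, 7] (by norm_num) ?_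
      (by decide +kernel)) τ hτ hcard) ((iso.symm.trans Subgroup.topEquiv).trans
        (QuotientGroup.quotientBot.symm.trans (QuotientGroup.quotientMulEquivOfEq hz.symm)))
  · rintro A hA
    rcases List.mem_pair.1 hA with rfl | rfl
    · exact ⟨Nat.prime_two, sp62Schur2_ok⟩
    · exact ⟨Nat.prime_three, sp62Schur3_ok⟩
  · rintro A hA
    rcases List.mem_pair.1 hA with rfl | rfl <;> decide
  · intro q hq
    fin_cases hq <;> norm_num

end Cfsg.Agent.Lib.Compute.SchurLie
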