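import Cfsg.Agent.Lib.Compute.Chain

/-!
# Checking a large chain in several declarations

`chainCheck` split by level and generator, to bound the memory of one kernel computation.
-/

set_option autoImplicit false

namespace Cfsg.Agent.Lib.Compute

/-- The generators entering level `j`. -/
def gensAtLevel (S : List (ℕ × ℕ)) (L : List Lvl) : ℕ → List (ℕ × ℕ)
  | 0 => S
  | j + 1 => (L.getD j ⟨0, .leaf, [], []⟩).T

/-- The part of the check of level `j` without Schreier generators. -/
noncomputable def levelBase (O : Ops) (S : List (ℕ × ℕ)) (L : List Lvl) (j : ℕ) : Bool :=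
  match L[j]? with
  | none => false
  | some l =>
    increasing (l.orb.toList.map Ent.x) &&
    (l.orb.toList.all fun e => entCheck O (gensAtLevel S L j) l.b l.orb e) &&
    (match l.orb.find l.b with
      | none => false
      | some e => Nat.beq e.u O.one) &&
    nextCheck O (gensAtLevel S L j) l.b l.orb l.T l.W

/-- The Schreier generators of generator `i` at level `j`. -/
noncomputable def levelSchreier (O : Ops) (S : List (ℕ × ℕ)) (L : List Lvl) (j i : ℕ) : Bool :=
  match L[j]? with
  | none => false
  | some l => l.orb.toList.all fun e =>
      schreierCheck O l.orb (L.drop (j + 1)) (genAt (gensAtLevel S L j) O i) e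

/-- The final check. -/
noncomputable def levelLast (O : Ops) (S : List (ℕ × ℕ)) (L : List Lvl) : Bool :=
  (gensAtLevel S L L.length).all fun s => Nat.beq s.1 O.one

theorem chainCheck_of_levels {O : Ops} : ∀ {S : List (ℕ × ℕ)} {L : List Lvl},
    (∀ j < L.length, levelBase O S L j = true ∧
      ∀ i < (gensAtLevel S L j).length, levelSchreier O S L j i = true) →
    levelLast O S L = true → chainCheck O S L = true := by
  intro S L
  induction L generalizing S with
  | nil =>
    intro _ h
    simpa [levelLast, gensAtLevel, chainCheck] using h
  | cons l ls ih =>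
    intro h hlast
    obtain ⟨h0, h0s⟩ := h 0 (by simp)
    have hg : ∀ j, gensAtLevel S (l :: ls) (j + 1) = gensAtLevel l.T ls j := by
      intro j
      cases j with
      | zero => rfl
      | succ j => rfl
    simp only [levelBase, gensAtLevel, List.getElem?_cons_zero] at h0
    simp only [chainCheck, Bool.and_eq_true] at h0 ⊢
    refine ⟨⟨h0, List.all_eq_true.2 fun s hs => ?_⟩, ih (fun j hj => ?_) ?_⟩
    · obtain ⟨i, hi, rfl⟩ := List.getElem_of_mem hs
      have := h0s i hi
      simp only [levelSchreier, gensAtLevel, List.getElem?_cons_zero, List.drop_succ_cons,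
        List.drop_zero, genAt, List.getD_eq_getElem _ _ hi] at this
      exact this
    · obtain ⟨hb, hs⟩ := h (j + 1) (by simpa using hj)
      refine ⟨?_, fun i hi => ?_⟩
      · simpa [levelBase, hg j] using hb
      · simpa [levelSchreier, hg j] using hs i (by rwa [hg j])
    · simpa [levelLast, hg] using hlast

end Cfsg.Agent.Lib.Compute
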