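import Mathlib

/-! The certified generators of `Sz(8)` as words in translations and the involution `w`. -/

set_option autoImplicit false

namespace Cfsg.Agent.Lib.Compute.SchurLie

/-- Letters `0, 1, 2` are translations, `3` is `w`. -/
def sz8Words : List (List (Fin 4)) := [[0, 3, 2, 3, 2, 2, 3, 2], [0, 3, 1, 3, 0, 3, 0, 0]]

end Cfsg.Agent.Lib.Compute.SchurLie
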