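import Cfsg.Agent.Lib.Compute.SchurLie.SzEightSchur
import Cfsg.Agent.Lib.Compute.SchurLie.SzEightCoverA
import Cfsg.Agent.Lib.Compute.SchurLie.SzEightCoverB
import Cfsg.Agent.Lib.Compute.SchurLie.MultiBound
import Cfsg.Agent.Lib.Compute.SchurLie.SzEightWords
import Cfsg.Agent.Lib.Compute.Simple
import Cfsg.Agent.Lib.Compute.ActionImage
import Cfsg.Agent.Lib.Suzuki.Group
import Cfsg.Agent.Lib.SuzukiSp4.Iso

/-! The Schur multiplier of `Sz(8)`. -/

set_option autoImplicit false

namespace Cfsg.Agent.Lib.Compute.SchurLie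

open Cfsg.Agent.Lib.Compute.Schur
open Cfsg.Agent.Lib

/-- The model of the field of eight elements: coordinates in `1, t, t²` with `t³ = t + 1`. -/
abbrev Eight : Type := ZMod 2 × ZMod 2 × ZMod 2

def eightMul (a b : Eight) : Eight :=
  (a.1 * b.1 + (a.2.1 * b.2.2 + a.2.2 * b.2.1),
   a.1 * b.2.1 + a.2.1 * b.1 + (a.2.1 * b.2.2 + a.2.2 * b.2.1) + a.2.2 * b.2.2,
   a.1 * b.2.2 + a.2.1 * b.2.1 + a.2.2 * b.1 + a.2.2 * b.2.2)

def eightFour (a : Eight) : Eight := eightMul (eightMul a a) (eightMul a a)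

def eightSix (a : Eight) : Eight := eightMul (eightFour a) (eightMul a a)

def eightOfNat (k : ℕ) : Eight :=
  ((if k % 2 = 1 then 1 else 0), (if k / 2 % 2 = 1 then 1 else 0), (if k / 4 % 2 = 1 then 1 else 0))

def szPt (j : ℕ) : Option (Eight × Eight) :=
  if j = 0 then none else some (eightOfNat ((j - 1) / 8), eightOfNat ((j - 1) % 8))

def szMoveT (a b : Eight) : Option (Eight × Eight) → Option (Eight × Eight)
  | none => none
  | some (x, y) => some (x + a, y + eightMul (eightFour a) x + b)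

def szOv (x y : Eight) : Eight := eightMul x y + eightSix x + eightFour y

def szMoveW : Option (Eight × Eight) → Option (Eight × Eight)
  | none => some (0, 0)
  | some (x, y) =>
    if x = 0 ∧ y = 0 then none
    else some (eightMul y (eightSix (szOv x y)), eightMul x (eightSix (szOv x y)))

def szTrans : Fin 3 → Eight × Eight :=
  ![((1, 0, 0), (0, 0, 0)), ((0, 1, 0), (0, 0, 0)), ((0, 0, 1), (1, 1, 0))]

def szMove (l : Fin 4) : Option (Eight × Eight) → Option (Eight × Eight) :=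
  if h : (l : ℕ) < 3 then szMoveT (szTrans ⟨l, h⟩).1 (szTrans ⟨l, h⟩).2 else szMoveW

def szWord (u : List (Fin 4)) (p : Option (Eight × Eight)) : Option (Eight × Eight) :=
  u.foldr (fun l q => szMove l q) p

theorem szOv_ne : ∀ x y : Eight, ¬ (x = 0 ∧ y = 0) →
    eightMul (szOv x y) (eightSix (szOv x y)) = (1, 0, 0) := by decide +kernel

theorem sz8_acts : ∀ k : Fin 2, ∀ j : Fin 65,
    getP 8 (sz8Gens.getD k (0, 0)).1 j < 65 ∧
    szWord (sz8Words.getD k []) (szPt j) = szPt (getP 8 (sz8Gens.getD k (0, 0)).1 j) := by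
  decide +kernel

theorem sz8_inj : ∀ i j : Fin 65, szPt i = szPt j → i = j := by decide +kernel

theorem sz8Gens_length : sz8Gens.length = 2 := by decide +kernel

theorem eight_add_eq_zero : ∀ a b : Eight, a + b = 0 → a = b := by decide +kernel

theorem eightMul_inverse : ∀ a : Eight, a ≠ 0 → ∃ b, eightMul a b = (1, 0, 0) := by decide +kernel

theorem schur_Sz8 (F : Type*) [Field F] [Fintype F] (hF : Fintype.card F = 8) :
    Cfsg.HasSchurMultiplier ↥(Cfsg.Lie.Sz F 4) (Multiplicative (ZMod 2 × ZMod 2)) := by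
  have h : Suzuki.Hyp F 1 := ⟨le_rfl, by rw [hF]; norm_num⟩
  haveI : Fact (Nat.Prime 2) := ⟨Nat.prime_two⟩
  haveI : CharP F 2 := charP_of_card_eq_prime_pow (f := 3) (by rw [hF]; norm_num)
  obtain ⟨t, ht⟩ : ∃ t : F, t * t * t = t + 1 := by
    classical
    have hc : (({0, 1} : Finset F)).card < (Finset.univ : Finset F).card := by
      rw [Finset.card_univ, hF]
      exact lt_of_le_of_lt (Finset.card_le_two) (by norm_num)
    obtain ⟨u, -, hu⟩ := Finset.exists_mem_notMem_of_card_lt_card hc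
    simp only [Finset.mem_insert, Finset.mem_singleton, not_or] at hu
    have h7 : u ^ 7 = 1 := by
      have := FiniteField.pow_card_sub_one_eq_one u hu.1
      rwa [hF] at this
    have h2 : (2 : F) = 0 := CharTwo.two_eq_zero
    have he : (u - 1) * ((u * u * u + u + 1) * (u * u * u + u * u + 1)) = 0 := by
      linear_combination h7 + (u ^ 4 - u ^ 3) * h2
    rcases mul_eq_zero.1 ((mul_eq_zero.1 he).resolve_left (sub_ne_zero.2 hu.2)) with e | e
    · exact ⟨u, by linear_combination e - (u + 1) * h2⟩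
    · refine ⟨u⁻¹, ?_⟩
      have hu0 := hu.1
      field_simp
      linear_combination e - (u * u * u + u * u) * h2
  let φ : Eight → F := fun a => ZMod.castHom (dvd_refl 2) F a.1 +
    ZMod.castHom (dvd_refl 2) F a.2.1 * t + ZMod.castHom (dvd_refl 2) F a.2.2 * (t * t)
  have φadd : ∀ a b, φ (a + b) = φ a + φ b := fun a b => by
    simp only [φ, Prod.fst_add, Prod.snd_add, map_add]; ring
  have φmul : ∀ a b, φ (eightMul a b) = φ a * φ b := fun a b => by
    simp only [φ, eightMul, map_add, map_mul]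
    linear_combination (-(ZMod.castHom (dvd_refl 2) F a.2.1 * ZMod.castHom (dvd_refl 2) F b.2.2) -
      ZMod.castHom (dvd_refl 2) F a.2.2 * ZMod.castHom (dvd_refl 2) F b.2.1 -
      ZMod.castHom (dvd_refl 2) F a.2.2 * ZMod.castHom (dvd_refl 2) F b.2.2 * t) * ht
  have φzero : φ 0 = 0 := by simp [φ]
  have φone : φ (1, 0, 0) = 1 := by simp [φ]
  have φnz : ∀ a : Eight, a ≠ 0 → φ a ≠ 0 := by
    intro a ha h0
    obtain ⟨b, hb⟩ := eightMul_inverse a ha
    have := congrArg φ hb
    rw [φmul, h0, φone, zero_mul] at this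
    exact zero_ne_one this
  have φinj : Function.Injective φ := by
    intro a b e
    by_contra hne
    refine φnz (a + b) (fun hz => hne ?_) (by rw [φadd, e, CharTwo.add_self_eq_zero])
    exact eight_add_eq_zero a b hz
  have φfour : ∀ a, φ (eightFour a) = φ a ^ 4 := fun a => by rw [eightFour, φmul, φmul]; ring
  have φsix : ∀ a, φ (eightSix a) = φ a ^ 6 := fun a => by rw [eightSix, φmul, φfour, φmul]; ring
  let ψ : Option (Eight × Eight) → Cfsg.suzukiOvoid F 1 := fun p =>
    p.elim (Suzuki.ovInf F 1) fun q => Suzuki.ovAff 1 (φ q.1) (φ q.2)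
  have hψ : Function.Injective ψ := by
    rintro (_ | ⟨x, y⟩) (_ | ⟨x', y'⟩) e
    · rfl
    · exact absurd e.symm (Suzuki.ovAff_ne_inf _ _)
    · exact absurd e (Suzuki.ovAff_ne_inf _ _)
    · obtain ⟨e1, e2⟩ := Suzuki.ovAff_injective e
      exact congrArg some (Prod.ext (φinj e1) (φinj e2))
  let letter : Fin 4 → Cfsg.Sz F 1 := fun l =>
    if hl : (l : ℕ) < 3 then Suzuki.szT h (φ (szTrans ⟨l, hl⟩).1) (φ (szTrans ⟨l, hl⟩).2)
    else Suzuki.szW h
  have hletter : ∀ l p, letter l • ψ p = ψ (szMove l p) := by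
    intro l p
    by_cases hl : (l : ℕ) < 3
    · simp only [letter, szMove, dif_pos hl]
      rcases p with _ | ⟨x, y⟩
      · exact Suzuki.szT_inf h _ _
      · show Suzuki.szT h _ _ • Suzuki.ovAff 1 (φ x) (φ y) = Suzuki.ovAff 1 (φ _) (φ _)
        rw [Suzuki.szT_aff, φadd, φadd, φadd, φmul, φfour]
        rfl
    · simp only [letter, szMove, dif_neg hl]
      rcases p with _ | ⟨x, y⟩
      · show Suzuki.szW h • Suzuki.ovInf F 1 = Suzuki.ovAff 1 (φ 0) (φ 0)
        rw [φzero, Suzuki.szW_inf]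
      · by_cases h0 : x = 0 ∧ y = 0
        · rw [szMoveW, if_pos h0]
          show Suzuki.szW h • Suzuki.ovAff 1 (φ x) (φ y) = Suzuki.ovInf F 1
          rw [h0.1, h0.2, φzero, Suzuki.szW_zero]
        · rw [szMoveW, if_neg h0]
          show Suzuki.szW h • Suzuki.ovAff 1 (φ x) (φ y) = Suzuki.ovAff 1 (φ _) (φ _)
          have hov : φ (szOv x y) = Suzuki.ovFun 1 (φ x) (φ y) := by
            rw [szOv, φadd, φadd, φmul, φsix, φfour]
            rfl
          have hinv := congrArg φ (szOv_ne x y h0)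
          rw [φmul, φone, hov] at hinv
          have hne : Suzuki.ovFun 1 (φ x) (φ y) ≠ 0 := left_ne_zero_of_mul (hinv.trans_ne one_ne_zero)
          refine Subtype.ext ?_
          refine (Suzuki.slW_apt h hne).trans ?_
          show _ = Suzuki.apt 1 _ _
          rw [φmul, φmul, div_eq_mul_inv, div_eq_mul_inv, inv_eq_of_mul_eq_one_right hinv]
  let gs : List (Cfsg.Sz F 1) :=
    List.ofFn fun k : Fin 2 => ((sz8Words.getD k []).map letter).prod
  have hword : ∀ u p, (u.map letter).prod • ψ p = ψ (szWord u p) := by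
    intro u p
    induction u with
    | nil => simp [szWord]
    | cons l u ih =>
      rw [List.map_cons, List.prod_cons, mul_smul, ih, hletter]
      rfl
  let pts : Fin 65 → Cfsg.suzukiOvoid F 1 := fun j => ψ (szPt j)
  have hinj : Function.Injective pts := fun i j e => sz8_inj i j (hψ e)
  have hm : 65 ≤ 2 ^ 8 := by norm_num
  have hn : 1185 ≤ 2 ^ 11 := by norm_num
  have hS : GensOK (permCoding 8 (Equiv.refl (Fin 65)) hm) sz8Gens := gensOK_literal _ _ sz8Gens_ok
  have hA : GensOK (permCoding 11 (Equiv.refl (Fin 1185)) hn) szCoverAGens :=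
    gensOK_literal _ _ szCoverAGens_ok
  have hB : GensOK (permCoding 11 (Equiv.refl (Fin 1185)) hn) szCoverBGens :=
    gensOK_literal _ _ szCoverBGens_ok
  have hacts : ActsBy 8 pts gs sz8Gens := by
    refine ⟨by rw [sz8Gens_length]; exact List.length_ofFn, fun k g p hg hp j => ?_⟩
    obtain ⟨hk, rfl⟩ := List.getElem?_eq_some_iff.1 hg
    obtain ⟨hk', rfl⟩ := List.getElem?_eq_some_iff.1 hp
    have hk2 : k < 2 := lt_of_lt_of_eq hk List.length_ofFn
    obtain ⟨hlt, he⟩ := sz8_acts ⟨k, hk2⟩ j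
    simp only [List.getD_eq_getElem _ _ hk'] at hlt he
    refine ⟨hlt, ?_⟩
    have hgk : gs[k]'hk = ((sz8Words.getD k []).map letter).prod := List.getElem_ofFn hk
    rw [hgk]
    show _ • ψ _ = ψ _
    rw [hword, he]
  have hcardH : Nat.card (⊤ : Subgroup (Cfsg.Sz F 1)) =
      Nat.card (genGroup (permCoding 8 (Equiv.refl (Fin 65)) hm) sz8Gens) := by
    rw [card_genGroup _ hS sz8Chain_ok, sz8Chain_size, Subgroup.card_top, Suzuki.card_Sz h, hF]
    norm_num
  obtain ⟨iso⟩ := nonempty_mulEquiv_genGroup hm ⊤ pts hinj gs (fun _ _ => trivial) hS hacts hcardH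
  obtain ⟨τ₁, s₁, k₁, p₁⟩ := exists_restriction_spec (Equiv.refl (Fin 65)) (k := 2) (o := 1120)
    two_pos hn hm (by norm_num) hA hS szCoverA_block szCoverAChain_ok sz8Chain_ok
    (by rw [szCoverAChain_size, sz8Chain_size])
  obtain ⟨τ₂, s₂, k₂, p₂⟩ := exists_restriction_spec (Equiv.refl (Fin 65)) (k := 2) (o := 1120)
    two_pos hn hm (by norm_num) hB hS szCoverB_block szCoverBChain_ok sz8Chain_ok
    (by rw [szCoverBChain_size, sz8Chain_size])
  obtain ⟨a, a', ea, ea', ha⟩ := exists_lift_comm hn hm hA szCoverAChain_ok hS sz8Chain_ok τ₁ p₁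
    szCoverA_liftOne
  obtain ⟨b, b', eb, eb', hb⟩ := exists_lift_comm hn hm hB szCoverBChain_ok hS sz8Chain_ok τ₂ p₂
    szCoverB_liftOne
  obtain ⟨c, c', ec, ec', hc⟩ := exists_lift_comm hn hm hA szCoverAChain_ok hS sz8Chain_ok τ₁ p₁
    szCoverA_liftTwo
  obtain ⟨d, d', ed, ed', hd⟩ := exists_lift_comm hn hm hB szCoverBChain_ok hS sz8Chain_ok τ₂ p₂
    szCoverB_liftTwo
  have heq : ∀ {x y : genGroup (permCoding 8 (Equiv.refl (Fin 65)) hm) sz8Gens} {code : ℕ},
      (permCoding 8 (Equiv.refl (Fin 65)) hm).enc (x : Equiv.Perm (Fin 65)) = code →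
      (permCoding 8 (Equiv.refl (Fin 65)) hm).enc (y : Equiv.Perm (Fin 65)) = code → x = y :=
    fun e e' => Subtype.ext ((permCoding 8 (Equiv.refl (Fin 65)) hm).inj (e.trans e'.symm))
  haveI : NeZero sz8Schur2Part.r := ⟨by decide⟩
  refine Cfsg.Agent.Lib.Schur.hasSchurMultiplier_congr
    (hasSchurMultiplier_four τ₁ s₁ k₁ τ₂ s₂ k₂ a a' b b' (heq ea eb) (heq ea' eb')
      (fun e => Bool.false_ne_true (ha.1 e)) (hb.2 rfl) c c' d d' (heq ec ed) (heq ec' ed') (hc.2 rfl)
      (fun e => Bool.false_ne_true (hd.1 e)) fun Y _ τ h1 h2 => ?_)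
    ((iso.symm.trans Subgroup.topEquiv).trans (SuzukiSp4.szEquiv h)) (MulEquiv.refl _)
  refine (card_ker_inf_le_of_cert _ hS sz8Chain_ok sz8Chain_size sz8Schur2Part Nat.prime_two
    sz8Schur2_ok [] (by simp) (fun q hq hd' => Or.inl ?_) τ h1 h2).trans (le_of_eq (by decide))
  have hfac : q ∣ 2 * 5 * 7 * 13 := by
    have h6 : q ∣ (2 * 5 * 7 * 13) ^ 6 := ((dvd_pow_self q two_ne_zero).trans hd').trans (by norm_num)
    exact hq.dvd_of_dvd_pow h6
  have : q ≤ 2 * 5 * 7 * 13 := Nat.le_of_dvd (by norm_num) hfac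
  show q = 2
  rcases (Nat.Prime.dvd_mul hq).1 hfac with hq1 | hq1
  · rcases (Nat.Prime.dvd_mul hq).1 hq1 with hq2 | hq2
    · rcases (Nat.Prime.dvd_mul hq).1 hq2 with hq3 | hq3
      · exact (Nat.prime_dvd_prime_iff_eq hq Nat.prime_two).1 hq3
      · rw [(Nat.prime_dvd_prime_iff_eq hq (by norm_num)).1 hq3] at hd'; norm_num at hd'
    · rw [(Nat.prime_dvd_prime_iff_eq hq (by norm_num)).1 hq2] at hd'; norm_num at hd'
  · rw [(Nat.prime_dvd_prime_iff_eq hq (by norm_num)).1 hq1] at hd'; norm_num at hd'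

end Cfsg.Agent.Lib.Compute.SchurLie
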