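import Cfsg.Agent.Lib.Compute.SchurLie.MultiBound

/-!
# A bound on a multiplier with a non-cyclic part at one prime and one further cyclic part
-/

set_option autoImplicit false

namespace Cfsg.Agent.Lib.Compute.Schur

universe u

variable {G : Type u} [Group G] [Finite G] {O : Ops} (C : Coding G O)

/-- A multi-generator certificate at one prime and a certificate at a second prime bound kernel and
derived subgroup of every central extension when no other prime square divides the order. -/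
theorem card_ker_inf_le_of_cert_two {S : List (ℕ × ℕ)} (hS : GensOK C S) {L : List Lvl}
    (hL : chainCheck O S L = true) {N : ℕ} (hN : chainSize L = N) {A : SchurCert} (M : MultiPart)
    [NeZero M.r] (hp : A.R.p.Prime) (h : certCheckMulti O L A M = true)
    {B : SchurCert} (hBp : B.R.p.Prime) (hB : certCheck O L B = true) (hBr : 0 < B.r)
    (hne : A.R.p ≠ B.R.p)
    (hrest : ∀ q : ℕ, q.Prime → q ^ 2 ∣ N → q = A.R.p ∨ q = B.R.p)
    {Y : Type*} [Group Y] (τ : Y →* genGroup C S) (hτ : Function.Surjective τ)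
    (hτc : τ.ker ≤ Subgroup.center Y) :
    Nat.card (τ.ker ⊓ commutator Y : Subgroup Y) ≤ M.r ^ M.Ts.length * B.r := by
  obtain ⟨A₀, _, _, hA₀⟩ := Cfsg.Agent.Lib.Schur.exists_hasSchurMultiplier (genGroup C S)
  obtain ⟨g, hg⟩ := Cfsg.Agent.Lib.Schur.exists_surjection_of_hasSchurMultiplier hA₀ τ hτ hτc
  refine (Nat.card_le_card_of_surjective g hg).trans ?_
  obtain ⟨Γ, _, _, σ, hσ, ⟨e⟩⟩ := hA₀.1
  rw [← Nat.card_congr e.toEquiv]
  simp only [certCheckMulti, Bool.and_eq_true] at h
  obtain ⟨a, ha, hmem⟩ := exists_generators C hS hL hp h.1.1 h.1.2 M h.2 σ hσ.1 hσ.2.1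
  haveI := Fact.mk hp
  set n := Nat.card σ.ker with hn
  have hn0 : n ≠ 0 := Nat.card_pos.ne'
  obtain ⟨P, hP⟩ := Sylow.exists_subgroup_card_pow_prime A.R.p
    (Nat.ordProj_dvd n A.R.p)
  have hple : A.R.p ^ n.factorization A.R.p ≤ M.r ^ M.Ts.length := by
    rw [← hP, Nat.card_congr (P.equivMapOfInjective σ.ker.subtype σ.ker.subtype_injective).toEquiv]
    refine card_le_of_torsion_generators a ha _ ?_
    rintro _ ⟨x, hx, rfl⟩
    refine hmem x.1 ⟨x.2, hσ.2.2 x.2⟩ (n.factorization A.R.p) ?_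
    have h1 : x ^ Nat.card P = 1 :=
      congrArg Subtype.val (pow_card_eq_one' (x := (⟨x, hx⟩ : P)))
    rw [hP] at h1
    simpa using congrArg Subtype.val h1
  have hdvd : n / A.R.p ^ n.factorization A.R.p ∣ B.r := by
    rw [Nat.dvd_iff_prime_pow_dvd_dvd]
    intro q k hq hk
    rcases Nat.eq_zero_or_pos k with rfl | hk0
    · simp
    have hkn : q ^ k ∣ n := hk.trans (Nat.div_dvd_of_dvd (Nat.ordProj_dvd n A.R.p))
    have hqp : q ≠ A.R.p := by
      rintro rfl
      exact Nat.not_dvd_ordCompl hp hn0 ((dvd_pow_self _ hk0.ne').trans hk)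
    by_cases h2 : q ^ 2 ∣ Nat.card (genGroup C S)
    · rcases hrest q hq (by rwa [card_genGroup C hS hL, hN] at h2) with e' | rfl
      · exact absurd e' hqp
      · exact prime_pow_dvd_of_cert C hS hL hBp hB hσ hkn
    · exact absurd ((dvd_pow_self q hk0.ne').trans hkn) (not_dvd_of_sq_not_dvd C hσ hq h2)
  calc n = A.R.p ^ n.factorization A.R.p * (n / A.R.p ^ n.factorization A.R.p) :=
        (Nat.ordProj_mul_ordCompl_eq_self n A.R.p).symm
    _ ≤ M.r ^ M.Ts.length * B.r := Nat.mul_le_mul hple (Nat.le_of_dvd hBr hdvd)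

end Cfsg.Agent.Lib.Compute.Schur
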