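import Cfsg.Agent.Lib.Compute.SchurLie.USixChainData
import Cfsg.Agent.Lib.Compute.SchurLie.ChainChunks

/-! Generated: the piecewise checks of the chain on 693 points. -/

set_option autoImplicit false
set_option maxRecDepth 30000
set_option Elab.async false

namespace Cfsg.Agent.Lib.Compute.SchurLie.U62

open Cfsg.Agent.Lib.CosetTable

theorem u6Lvl0_ok : levelCheck (permOps 10 693) Fi22U6.u6Gens u6Lvl0 = true := by decide +kernel

theorem u6Sch_0_0_0 : schreierPart (permOps 10 693) Fi22U6.u6Gens u6Lvl0 [u6Lvl1, u6Lvl2, u6Lvl3, u6Lvl4, u6Lvl5] 0 0 96 = true := by decide +kernel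

theorem u6Sch_0_0_1 : schreierPart (permOps 10 693) Fi22U6.u6Gens u6Lvl0 [u6Lvl1, u6Lvl2, u6Lvl3, u6Lvl4, u6Lvl5] 0 96 96 = true := by decide +kernel

theorem u6Sch_0_0_2 : schreierPart (permOps 10 693) Fi22U6.u6Gens u6Lvl0 [u6Lvl1, u6Lvl2, u6Lvl3, u6Lvl4, u6Lvl5] 0 192 96 = true := by decide +kernel

theorem u6Sch_0_0_3 : schreierPart (permOps 10 693) Fi22U6.u6Gens u6Lvl0 [u6Lvl1, u6Lvl2, u6Lvl3, u6Lvl4, u6Lvl5] 0 288 96 = true := by decide +kernel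

theorem u6Sch_0_0_4 : schreierPart (permOps 10 693) Fi22U6.u6Gens u6Lvl0 [u6Lvl1, u6Lvl2, u6Lvl3, u6Lvl4, u6Lvl5] 0 384 96 = true := by decide +kernel

theorem u6Sch_0_0_5 : schreierPart (permOps 10 693) Fi22U6.u6Gens u6Lvl0 [u6Lvl1, u6Lvl2, u6Lvl3, u6Lvl4, u6Lvl5] 0 480 96 = true := by decide +kernel

theorem u6Sch_0_0_6 : schreierPart (permOps 10 693) Fi22U6.u6Gens u6Lvl0 [u6Lvl1, u6Lvl2, u6Lvl3, u6Lvl4, u6Lvl5] 0 576 96 = true := by decide +kernel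

theorem u6Sch_0_0_7 : schreierPart (permOps 10 693) Fi22U6.u6Gens u6Lvl0 [u6Lvl1, u6Lvl2, u6Lvl3, u6Lvl4, u6Lvl5] 0 672 96 = true := by decide +kernel

theorem u6Sch_0_1_0 : schreierPart (permOps 10 693) Fi22U6.u6Gens u6Lvl0 [u6Lvl1, u6Lvl2, u6Lvl3, u6Lvl4, u6Lvl5] 1 0 96 = true := by decide +kernel

theorem u6Sch_0_1_1 : schreierPart (permOps 10 693) Fi22U6.u6Gens u6Lvl0 [u6Lvl1, u6Lvl2, u6Lvl3, u6Lvl4, u6Lvl5] 1 96 96 = true := by decide +kernel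

theorem u6Sch_0_1_2 : schreierPart (permOps 10 693) Fi22U6.u6Gens u6Lvl0 [u6Lvl1, u6Lvl2, u6Lvl3, u6Lvl4, u6Lvl5] 1 192 96 = true := by decide +kernel

theorem u6Sch_0_1_3 : schreierPart (permOps 10 693) Fi22U6.u6Gens u6Lvl0 [u6Lvl1, u6Lvl2, u6Lvl3, u6Lvl4, u6Lvl5] 1 288 96 = true := by decide +kernel

theorem u6Sch_0_1_4 : schreierPart (permOps 10 693) Fi22U6.u6Gens u6Lvl0 [u6Lvl1, u6Lvl2, u6Lvl3, u6Lvl4, u6Lvl5] 1 384 96 = true := by decide +kernel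

theorem u6Sch_0_1_5 : schreierPart (permOps 10 693) Fi22U6.u6Gens u6Lvl0 [u6Lvl1, u6Lvl2, u6Lvl3, u6Lvl4, u6Lvl5] 1 480 96 = true := by decide +kernel

theorem u6Sch_0_1_6 : schreierPart (permOps 10 693) Fi22U6.u6Gens u6Lvl0 [u6Lvl1, u6Lvl2, u6Lvl3, u6Lvl4, u6Lvl5] 1 576 96 = true := by decide +kernel

theorem u6Sch_0_1_7 : schreierPart (permOps 10 693) Fi22U6.u6Gens u6Lvl0 [u6Lvl1, u6Lvl2, u6Lvl3, u6Lvl4, u6Lvl5] 1 672 96 = true := by decide +kernel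

theorem u6Sch_0_2_0 : schreierPart (permOps 10 693) Fi22U6.u6Gens u6Lvl0 [u6Lvl1, u6Lvl2, u6Lvl3, u6Lvl4, u6Lvl5] 2 0 96 = true := by decide +kernel

theorem u6Sch_0_2_1 : schreierPart (permOps 10 693) Fi22U6.u6Gens u6Lvl0 [u6Lvl1, u6Lvl2, u6Lvl3, u6Lvl4, u6Lvl5] 2 96 96 = true := by decide +kernel

theorem u6Sch_0_2_2 : schreierPart (permOps 10 693) Fi22U6.u6Gens u6Lvl0 [u6Lvl1, u6Lvl2, u6Lvl3, u6Lvl4, u6Lvl5] 2 192 96 = true := by decide +kernel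

theorem u6Sch_0_2_3 : schreierPart (permOps 10 693) Fi22U6.u6Gens u6Lvl0 [u6Lvl1, u6Lvl2, u6Lvl3, u6Lvl4, u6Lvl5] 2 288 96 = true := by decide +kernel

theorem u6Sch_0_2_4 : schreierPart (permOps 10 693) Fi22U6.u6Gens u6Lvl0 [u6Lvl1, u6Lvl2, u6Lvl3, u6Lvl4, u6Lvl5] 2 384 96 = true := by decide +kernel

theorem u6Sch_0_2_5 : schreierPart (permOps 10 693) Fi22U6.u6Gens u6Lvl0 [u6Lvl1, u6Lvl2, u6Lvl3, u6Lvl4, u6Lvl5] 2 480 96 = true := by decide +kernel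

theorem u6Sch_0_2_6 : schreierPart (permOps 10 693) Fi22U6.u6Gens u6Lvl0 [u6Lvl1, u6Lvl2, u6Lvl3, u6Lvl4, u6Lvl5] 2 576 96 = true := by decide +kernel

theorem u6Sch_0_2_7 : schreierPart (permOps 10 693) Fi22U6.u6Gens u6Lvl0 [u6Lvl1, u6Lvl2, u6Lvl3, u6Lvl4, u6Lvl5] 2 672 96 = true := by decide +kernel

theorem u6Sch_0_3_0 : schreierPart (permOps 10 693) Fi22U6.u6Gens u6Lvl0 [u6Lvl1, u6Lvl2, u6Lvl3, u6Lvl4, u6Lvl5] 3 0 96 = true := by decide +kernel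

theorem u6Sch_0_3_1 : schreierPart (permOps 10 693) Fi22U6.u6Gens u6Lvl0 [u6Lvl1, u6Lvl2, u6Lvl3, u6Lvl4, u6Lvl5] 3 96 96 = true := by decide +kernel

theorem u6Sch_0_3_2 : schreierPart (permOps 10 693) Fi22U6.u6Gens u6Lvl0 [u6Lvl1, u6Lvl2, u6Lvl3, u6Lvl4, u6Lvl5] 3 192 96 = true := by decide +kernel

theorem u6Sch_0_3_3 : schreierPart (permOps 10 693) Fi22U6.u6Gens u6Lvl0 [u6Lvl1, u6Lvl2, u6Lvl3, u6Lvl4, u6Lvl5] 3 288 96 = true := by decide +kernel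

theorem u6Sch_0_3_4 : schreierPart (permOps 10 693) Fi22U6.u6Gens u6Lvl0 [u6Lvl1, u6Lvl2, u6Lvl3, u6Lvl4, u6Lvl5] 3 384 96 = true := by decide +kernel

theorem u6Sch_0_3_5 : schreierPart (permOps 10 693) Fi22U6.u6Gens u6Lvl0 [u6Lvl1, u6Lvl2, u6Lvl3, u6Lvl4, u6Lvl5] 3 480 96 = true := by decide +kernel

theorem u6Sch_0_3_6 : schreierPart (permOps 10 693) Fi22U6.u6Gens u6Lvl0 [u6Lvl1, u6Lvl2, u6Lvl3, u6Lvl4, u6Lvl5] 3 576 96 = true := by decide +kernel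

theorem u6Sch_0_3_7 : schreierPart (permOps 10 693) Fi22U6.u6Gens u6Lvl0 [u6Lvl1, u6Lvl2, u6Lvl3, u6Lvl4, u6Lvl5] 3 672 96 = true := by decide +kernel

theorem u6Sch_0_4_0 : schreierPart (permOps 10 693) Fi22U6.u6Gens u6Lvl0 [u6Lvl1, u6Lvl2, u6Lvl3, u6Lvl4, u6Lvl5] 4 0 96 = true := by decide +kernel

theorem u6Sch_0_4_1 : schreierPart (permOps 10 693) Fi22U6.u6Gens u6Lvl0 [u6Lvl1, u6Lvl2, u6Lvl3, u6Lvl4, u6Lvl5] 4 96 96 = true := by decide +kernel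

theorem u6Sch_0_4_2 : schreierPart (permOps 10 693) Fi22U6.u6Gens u6Lvl0 [u6Lvl1, u6Lvl2, u6Lvl3, u6Lvl4, u6Lvl5] 4 192 96 = true := by decide +kernel

theorem u6Sch_0_4_3 : schreierPart (permOps 10 693) Fi22U6.u6Gens u6Lvl0 [u6Lvl1, u6Lvl2, u6Lvl3, u6Lvl4, u6Lvl5] 4 288 96 = true := by decide +kernel

theorem u6Sch_0_4_4 : schreierPart (permOps 10 693) Fi22U6.u6Gens u6Lvl0 [u6Lvl1, u6Lvl2, u6Lvl3, u6Lvl4, u6Lvl5] 4 384 96 = true := by decide +kernel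

theorem u6Sch_0_4_5 : schreierPart (permOps 10 693) Fi22U6.u6Gens u6Lvl0 [u6Lvl1, u6Lvl2, u6Lvl3, u6Lvl4, u6Lvl5] 4 480 96 = true := by decide +kernel

theorem u6Sch_0_4_6 : schreierPart (permOps 10 693) Fi22U6.u6Gens u6Lvl0 [u6Lvl1, u6Lvl2, u6Lvl3, u6Lvl4, u6Lvl5] 4 576 96 = true := by decide +kernel

theorem u6Sch_0_4_7 : schreierPart (permOps 10 693) Fi22U6.u6Gens u6Lvl0 [u6Lvl1, u6Lvl2, u6Lvl3, u6Lvl4, u6Lvl5] 4 672 96 = true := by decide +kernel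

theorem u6Sch_0_5_0 : schreierPart (permOps 10 693) Fi22U6.u6Gens u6Lvl0 [u6Lvl1, u6Lvl2, u6Lvl3, u6Lvl4, u6Lvl5] 5 0 96 = true := by decide +kernel

theorem u6Sch_0_5_1 : schreierPart (permOps 10 693) Fi22U6.u6Gens u6Lvl0 [u6Lvl1, u6Lvl2, u6Lvl3, u6Lvl4, u6Lvl5] 5 96 96 = true := by decide +kernel

theorem u6Sch_0_5_2 : schreierPart (permOps 10 693) Fi22U6.u6Gens u6Lvl0 [u6Lvl1, u6Lvl2, u6Lvl3, u6Lvl4, u6Lvl5] 5 192 96 = true := by decide +kernel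

theorem u6Sch_0_5_3 : schreierPart (permOps 10 693) Fi22U6.u6Gens u6Lvl0 [u6Lvl1, u6Lvl2, u6Lvl3, u6Lvl4, u6Lvl5] 5 288 96 = true := by decide +kernel

theorem u6Sch_0_5_4 : schreierPart (permOps 10 693) Fi22U6.u6Gens u6Lvl0 [u6Lvl1, u6Lvl2, u6Lvl3, u6Lvl4, u6Lvl5] 5 384 96 = true := by decide +kernel

theorem u6Sch_0_5_5 : schreierPart (permOps 10 693) Fi22U6.u6Gens u6Lvl0 [u6Lvl1, u6Lvl2, u6Lvl3, u6Lvl4, u6Lvl5] 5 480 96 = true := by decide +kernel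

theorem u6Sch_0_5_6 : schreierPart (permOps 10 693) Fi22U6.u6Gens u6Lvl0 [u6Lvl1, u6Lvl2, u6Lvl3, u6Lvl4, u6Lvl5] 5 576 96 = true := by decide +kernel

theorem u6Sch_0_5_7 : schreierPart (permOps 10 693) Fi22U6.u6Gens u6Lvl0 [u6Lvl1, u6Lvl2, u6Lvl3, u6Lvl4, u6Lvl5] 5 672 96 = true := by decide +kernel

theorem u6Sch_0_6_0 : schreierPart (permOps 10 693) Fi22U6.u6Gens u6Lvl0 [u6Lvl1, u6Lvl2, u6Lvl3, u6Lvl4, u6Lvl5] 6 0 96 = true := by decide +kernel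

theorem u6Sch_0_6_1 : schreierPart (permOps 10 693) Fi22U6.u6Gens u6Lvl0 [u6Lvl1, u6Lvl2, u6Lvl3, u6Lvl4, u6Lvl5] 6 96 96 = true := by decide +kernel

theorem u6Sch_0_6_2 : schreierPart (permOps 10 693) Fi22U6.u6Gens u6Lvl0 [u6Lvl1, u6Lvl2, u6Lvl3, u6Lvl4, u6Lvl5] 6 192 96 = true := by decide +kernel

theorem u6Sch_0_6_3 : schreierPart (permOps 10 693) Fi22U6.u6Gens u6Lvl0 [u6Lvl1, u6Lvl2, u6Lvl3, u6Lvl4, u6Lvl5] 6 288 96 = true := by decide +kernel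

theorem u6Sch_0_6_4 : schreierPart (permOps 10 693) Fi22U6.u6Gens u6Lvl0 [u6Lvl1, u6Lvl2, u6Lvl3, u6Lvl4, u6Lvl5] 6 384 96 = true := by decide +kernel

theorem u6Sch_0_6_5 : schreierPart (permOps 10 693) Fi22U6.u6Gens u6Lvl0 [u6Lvl1, u6Lvl2, u6Lvl3, u6Lvl4, u6Lvl5] 6 480 96 = true := by decide +kernel

theorem u6Sch_0_6_6 : schreierPart (permOps 10 693) Fi22U6.u6Gens u6Lvl0 [u6Lvl1, u6Lvl2, u6Lvl3, u6Lvl4, u6Lvl5] 6 576 96 = true := by decide +kernel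

theorem u6Sch_0_6_7 : schreierPart (permOps 10 693) Fi22U6.u6Gens u6Lvl0 [u6Lvl1, u6Lvl2, u6Lvl3, u6Lvl4, u6Lvl5] 6 672 96 = true := by decide +kernel

theorem u6Sch_0_7_0 : schreierPart (permOps 10 693) Fi22U6.u6Gens u6Lvl0 [u6Lvl1, u6Lvl2, u6Lvl3, u6Lvl4, u6Lvl5] 7 0 96 = true := by decide +kernel

theorem u6Sch_0_7_1 : schreierPart (permOps 10 693) Fi22U6.u6Gens u6Lvl0 [u6Lvl1, u6Lvl2, u6Lvl3, u6Lvl4, u6Lvl5] 7 96 96 = true := by decide +kernel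

theorem u6Sch_0_7_2 : schreierPart (permOps 10 693) Fi22U6.u6Gens u6Lvl0 [u6Lvl1, u6Lvl2, u6Lvl3, u6Lvl4, u6Lvl5] 7 192 96 = true := by decide +kernel

theorem u6Sch_0_7_3 : schreierPart (permOps 10 693) Fi22U6.u6Gens u6Lvl0 [u6Lvl1, u6Lvl2, u6Lvl3, u6Lvl4, u6Lvl5] 7 288 96 = true := by decide +kernel

theorem u6Sch_0_7_4 : schreierPart (permOps 10 693) Fi22U6.u6Gens u6Lvl0 [u6Lvl1, u6Lvl2, u6Lvl3, u6Lvl4, u6Lvl5] 7 384 96 = true := by decide +kernel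

theorem u6Sch_0_7_5 : schreierPart (permOps 10 693) Fi22U6.u6Gens u6Lvl0 [u6Lvl1, u6Lvl2, u6Lvl3, u6Lvl4, u6Lvl5] 7 480 96 = true := by decide +kernel

theorem u6Sch_0_7_6 : schreierPart (permOps 10 693) Fi22U6.u6Gens u6Lvl0 [u6Lvl1, u6Lvl2, u6Lvl3, u6Lvl4, u6Lvl5] 7 576 96 = true := by decide +kernel

theorem u6Sch_0_7_7 : schreierPart (permOps 10 693) Fi22U6.u6Gens u6Lvl0 [u6Lvl1, u6Lvl2, u6Lvl3, u6Lvl4, u6Lvl5] 7 672 96 = true := by decide +kernel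

theorem u6Lvl1_ok : levelCheck (permOps 10 693) u6Lvl0.T u6Lvl1 = true := by decide +kernel

theorem u6Sch_1_0_0 : schreierPart (permOps 10 693) u6Lvl0.T u6Lvl1 [u6Lvl2, u6Lvl3, u6Lvl4, u6Lvl5] 0 0 96 = true := by decide +kernel

theorem u6Sch_1_0_1 : schreierPart (permOps 10 693) u6Lvl0.T u6Lvl1 [u6Lvl2, u6Lvl3, u6Lvl4, u6Lvl5] 0 96 96 = true := by decide +kernel

theorem u6Sch_1_0_2 : schreierPart (permOps 10 693) u6Lvl0.T u6Lvl1 [u6Lvl2, u6Lvl3, u6Lvl4, u6Lvl5] 0 192 96 = true := by decide +kernel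

theorem u6Sch_1_0_3 : schreierPart (permOps 10 693) u6Lvl0.T u6Lvl1 [u6Lvl2, u6Lvl3, u6Lvl4, u6Lvl5] 0 288 96 = true := by decide +kernel

theorem u6Sch_1_0_4 : schreierPart (permOps 10 693) u6Lvl0.T u6Lvl1 [u6Lvl2, u6Lvl3, u6Lvl4, u6Lvl5] 0 384 96 = true := by decide +kernel

theorem u6Sch_1_0_5 : schreierPart (permOps 10 693) u6Lvl0.T u6Lvl1 [u6Lvl2, u6Lvl3, u6Lvl4, u6Lvl5] 0 480 96 = true := by decide +kernel

theorem u6Sch_1_1_0 : schreierPart (permOps 10 693) u6Lvl0.T u6Lvl1 [u6Lvl2, u6Lvl3, u6Lvl4, u6Lvl5] 1 0 96 = true := by decide +kernel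

theorem u6Sch_1_1_1 : schreierPart (permOps 10 693) u6Lvl0.T u6Lvl1 [u6Lvl2, u6Lvl3, u6Lvl4, u6Lvl5] 1 96 96 = true := by decide +kernel

theorem u6Sch_1_1_2 : schreierPart (permOps 10 693) u6Lvl0.T u6Lvl1 [u6Lvl2, u6Lvl3, u6Lvl4, u6Lvl5] 1 192 96 = true := by decide +kernel

theorem u6Sch_1_1_3 : schreierPart (permOps 10 693) u6Lvl0.T u6Lvl1 [u6Lvl2, u6Lvl3, u6Lvl4, u6Lvl5] 1 288 96 = true := by decide +kernel

theorem u6Sch_1_1_4 : schreierPart (permOps 10 693) u6Lvl0.T u6Lvl1 [u6Lvl2, u6Lvl3, u6Lvl4, u6Lvl5] 1 384 96 = true := by decide +kernel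

theorem u6Sch_1_1_5 : schreierPart (permOps 10 693) u6Lvl0.T u6Lvl1 [u6Lvl2, u6Lvl3, u6Lvl4, u6Lvl5] 1 480 96 = true := by decide +kernel

theorem u6Lvl2_ok : levelCheck (permOps 10 693) u6Lvl1.T u6Lvl2 = true := by decide +kernel

theorem u6Sch_2_0_0 : schreierPart (permOps 10 693) u6Lvl1.T u6Lvl2 [u6Lvl3, u6Lvl4, u6Lvl5] 0 0 96 = true := by decide +kernel

theorem u6Sch_2_0_1 : schreierPart (permOps 10 693) u6Lvl1.T u6Lvl2 [u6Lvl3, u6Lvl4, u6Lvl5] 0 96 96 = true := by decide +kernel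

theorem u6Sch_2_1_0 : schreierPart (permOps 10 693) u6Lvl1.T u6Lvl2 [u6Lvl3, u6Lvl4, u6Lvl5] 1 0 96 = true := by decide +kernel

theorem u6Sch_2_1_1 : schreierPart (permOps 10 693) u6Lvl1.T u6Lvl2 [u6Lvl3, u6Lvl4, u6Lvl5] 1 96 96 = true := by decide +kernel

theorem u6Lvl3_ok : levelCheck (permOps 10 693) u6Lvl2.T u6Lvl3 = true := by decide +kernel

theorem u6Sch_3_0_0 : schreierPart (permOps 10 693) u6Lvl2.T u6Lvl3 [u6Lvl4, u6Lvl5] 0 0 96 = true := by decide +kernel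

theorem u6Sch_3_1_0 : schreierPart (permOps 10 693) u6Lvl2.T u6Lvl3 [u6Lvl4, u6Lvl5] 1 0 96 = true := by decide +kernel

theorem u6Sch_3_2_0 : schreierPart (permOps 10 693) u6Lvl2.T u6Lvl3 [u6Lvl4, u6Lvl5] 2 0 96 = true := by decide +kernel

theorem u6Lvl4_ok : levelCheck (permOps 10 693) u6Lvl3.T u6Lvl4 = true := by decide +kernel

theorem u6Sch_4_0_0 : schreierPart (permOps 10 693) u6Lvl3.T u6Lvl4 [u6Lvl5] 0 0 96 = true := by decide +kernel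

theorem u6Sch_4_1_0 : schreierPart (permOps 10 693) u6Lvl3.T u6Lvl4 [u6Lvl5] 1 0 96 = true := by decide +kernel

theorem u6Lvl5_ok : levelCheck (permOps 10 693) u6Lvl4.T u6Lvl5 = true := by decide +kernel

theorem u6Sch_5_0_0 : schreierPart (permOps 10 693) u6Lvl4.T u6Lvl5 [] 0 0 96 = true := by decide +kernel

theorem u6Full_end : chainCheck (permOps 10 693) u6Lvl5.T [] = true := by decide +kernel

theorem u6Tail5 : chainCheck (permOps 10 693) u6Lvl4.T (u6Lvl5 :: []) = true :=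
  chainCheck_cons_of_parts (m := 96) (K := 1) (B := 1) u6Lvl5_ok (le_of_eq (by decide +kernel)) (by decide +kernel)
    (fun k hk c hc => by
      interval_cases k <;> interval_cases c
      · exact u6Sch_5_0_0
      )
    u6Full_end

theorem u6Tail4 : chainCheck (permOps 10 693) u6Lvl3.T (u6Lvl4 :: [u6Lvl5]) = true :=
  chainCheck_cons_of_parts (m := 96) (K := 2) (B := 1) u6Lvl4_ok (le_of_eq (by decide +kernel)) (by decide +kernel)
    (fun k hk c hc => by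
      interval_cases k <;> interval_cases c
      · exact u6Sch_4_0_0
      · exact u6Sch_4_1_0
      )
    u6Tail5

theorem u6Tail3 : chainCheck (permOps 10 693) u6Lvl2.T (u6Lvl3 :: [u6Lvl4, u6Lvl5]) = true :=
  chainCheck_cons_of_parts (m := 96) (K := 3) (B := 1) u6Lvl3_ok (le_of_eq (by decide +kernel)) (by decide +kernel)
    (fun k hk c hc => by
      interval_cases k <;> interval_cases c
      · exact u6Sch_3_0_0
      · exact u6Sch_3_1_0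
      · exact u6Sch_3_2_0
      )
    u6Tail4

theorem u6Tail2 : chainCheck (permOps 10 693) u6Lvl1.T (u6Lvl2 :: [u6Lvl3, u6Lvl4, u6Lvl5]) = true :=
  chainCheck_cons_of_parts (m := 96) (K := 2) (B := 2) u6Lvl2_ok (le_of_eq (by decide +kernel)) (by decide +kernel)
    (fun k hk c hc => by
      interval_cases k <;> interval_cases c
      · exact u6Sch_2_0_0
      · exact u6Sch_2_0_1
      · exact u6Sch_2_1_0
      · exact u6Sch_2_1_1
      )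
    u6Tail3

theorem u6Tail1 : chainCheck (permOps 10 693) u6Lvl0.T (u6Lvl1 :: [u6Lvl2, u6Lvl3, u6Lvl4, u6Lvl5]) = true :=
  chainCheck_cons_of_parts (m := 96) (K := 2) (B := 6) u6Lvl1_ok (le_of_eq (by decide +kernel)) (by decide +kernel)
    (fun k hk c hc => by
      interval_cases k <;> interval_cases c
      · exact u6Sch_1_0_0
      · exact u6Sch_1_0_1
      · exact u6Sch_1_0_2
      · exact u6Sch_1_0_3
      · exact u6Sch_1_0_4
      · exact u6Sch_1_0_5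
      · exact u6Sch_1_1_0
      · exact u6Sch_1_1_1
      · exact u6Sch_1_1_2
      · exact u6Sch_1_1_3
      · exact u6Sch_1_1_4
      · exact u6Sch_1_1_5
      )
    u6Tail2

theorem u6Full_ok : chainCheck (permOps 10 693) Fi22U6.u6Gens u6Full = true :=
  chainCheck_cons_of_parts (m := 96) (K := 8) (B := 8) u6Lvl0_ok (le_of_eq (by decide +kernel)) (by decide +kernel)
    (fun k hk c hc => by
      interval_cases k <;> interval_cases c
      · exact u6Sch_0_0_0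
      · exact u6Sch_0_0_1
      · exact u6Sch_0_0_2
      · exact u6Sch_0_0_3
      · exact u6Sch_0_0_4
      · exact u6Sch_0_0_5
      · exact u6Sch_0_0_6
      · exact u6Sch_0_0_7
      · exact u6Sch_0_1_0
      · exact u6Sch_0_1_1
      · exact u6Sch_0_1_2
      · exact u6Sch_0_1_3
      · exact u6Sch_0_1_4
      · exact u6Sch_0_1_5
      · exact u6Sch_0_1_6
      · exact u6Sch_0_1_7
      · exact u6Sch_0_2_0
      · exact u6Sch_0_2_1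
      · exact u6Sch_0_2_2
      · exact u6Sch_0_2_3
      · exact u6Sch_0_2_4
      · exact u6Sch_0_2_5
      · exact u6Sch_0_2_6
      · exact u6Sch_0_2_7
      · exact u6Sch_0_3_0
      · exact u6Sch_0_3_1
      · exact u6Sch_0_3_2
      · exact u6Sch_0_3_3
      · exact u6Sch_0_3_4
      · exact u6Sch_0_3_5
      · exact u6Sch_0_3_6
      · exact u6Sch_0_3_7
      · exact u6Sch_0_4_0
      · exact u6Sch_0_4_1
      · exact u6Sch_0_4_2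
      · exact u6Sch_0_4_3
      · exact u6Sch_0_4_4
      · exact u6Sch_0_4_5
      · exact u6Sch_0_4_6
      · exact u6Sch_0_4_7
      · exact u6Sch_0_5_0
      · exact u6Sch_0_5_1
      · exact u6Sch_0_5_2
      · exact u6Sch_0_5_3
      · exact u6Sch_0_5_4
      · exact u6Sch_0_5_5
      · exact u6Sch_0_5_6
      · exact u6Sch_0_5_7
      · exact u6Sch_0_6_0
      · exact u6Sch_0_6_1
      · exact u6Sch_0_6_2
      · exact u6Sch_0_6_3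
      · exact u6Sch_0_6_4
      · exact u6Sch_0_6_5
      · exact u6Sch_0_6_6
      · exact u6Sch_0_6_7
      · exact u6Sch_0_7_0
      · exact u6Sch_0_7_1
      · exact u6Sch_0_7_2
      · exact u6Sch_0_7_3
      · exact u6Sch_0_7_4
      · exact u6Sch_0_7_5
      · exact u6Sch_0_7_6
      · exact u6Sch_0_7_7
      )
    u6Tail1

end Cfsg.Agent.Lib.Compute.SchurLie.U62
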