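import Cfsg.Agent.Lib.Compute.SchurLie.USixDouble
import Cfsg.Agent.Lib.Compute.SchurLie.USixChain
import Cfsg.Agent.Lib.Compute.SchurLie.USixSchurTwo
import Cfsg.Agent.Lib.Compute.SchurLie.USixSchurThree
import Cfsg.Agent.Lib.Compute.SchurLie.TwoThreeBound
import Cfsg.Agent.Lib.Compute.SchurLie.SixCover
import Cfsg.Agent.Lib.Classical.UnitaryStandard
import Cfsg.Agent.Lib.PSUThreeTwo.Transport

/-!
# The multiplier `3 × 2 × 2` of `PSU(6, 2)`

`SU(6, 2)` is the triple cover; the centraliser of a transposition in `Fi₂₂`, read directly and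
through an outer automorphism of the 693 points, gives two independent double covers; certificates
on the 693 points give the bound.
-/

set_option autoImplicit false
set_option maxRecDepth 20000

namespace Cfsg.Agent.Lib.Compute.SchurLie.U62

open Cfsg.Agent.Lib.CosetTable
open Cfsg.Agent.Lib.Compute
open Fi22U6
open HeSp44

/-- the image of a point under the outer permutation -/
noncomputable def dPt (j : ℕ) : ℕ := getP 10 deltaCode.1 j

/-- its inverse -/
noncomputable def dInv (j : ℕ) : ℕ := getP 10 deltaCode.2 j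

theorem delta_ok : ∀ j : Fin 693, dPt j.val < 693 ∧ dInv j.val < 693 ∧
    dInv (dPt j.val) = j.val ∧ dPt (dInv j.val) = j.val := by decide +kernel

theorem delta_gens : ∀ k : Fin 8, ∀ j : Fin 693,
    wordPt (deltaWords.getD k.val []) (dPt j.val) = dPt (gp k.val j.val) := by decide +kernel

theorem delta_wit : ∀ j : Fin 693,
    dPt (wordPt (wit 2) j.val) = wordPt (wit 0) (dPt j.val) ∧
    dPt (wordPt (wit 3) j.val) = wordPt (wit 1) (dPt j.val) ∧
    dPt (wordPt (wit 6) j.val) = wordPt (wit 4) (dPt j.val) ∧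
    dPt (wordPt (wit 7) j.val) = wordPt (wit 5) (dPt j.val) := by decide +kernel

theorem deltaWords_small (k : ℕ) : ∀ a ∈ deltaWords.getD k [], a < 8 := by
  intro a ha
  rcases lt_or_ge k deltaWords.length with h | h
  · rw [List.getD_eq_getElem _ _ h] at ha
    exact witWords_small _ (List.mem_append_right _ (List.getElem_mem h)) a ha
  · rw [List.getD_eq_default _ _ h] at ha
    exact absurd ha List.not_mem_nil

/-- the outer permutation -/
noncomputable def delta : Equiv.Perm (Fin 693) where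
  toFun j := ⟨dPt j.val, (delta_ok j).1⟩
  invFun j := ⟨dInv j.val, (delta_ok j).2.1⟩
  left_inv j := Fin.ext (delta_ok j).2.2.1
  right_inv j := Fin.ext (delta_ok j).2.2.2

theorem exists_gen_perm (k : Fin 8) :
    ∃ g : u6, ∀ j : Fin 693, ((g : Equiv.Perm (Fin 693)) j).val = gp k.val j.val := by
  have hk : k.val < u6Gens.length := by rw [u6Gens_length]; exact k.isLt
  obtain ⟨g, -, hg, -⟩ := u6_ok _ (List.getElem_mem hk)
  refine ⟨⟨g, Subgroup.subset_closure ⟨_, List.getElem_mem hk, hg⟩⟩, fun j => ?_⟩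
  show (g j).val = _
  rw [gp, List.getD_eq_getElem _ _ hk, ← hg, permCoding_enc, getP_encP hw _ _ j.isLt]
  simp [imgP]

theorem map_conj_delta_le : u6.map (MulAut.conj delta).toMonoidHom ≤ u6 := by
  choose e he using exists_gen_perm
  let e' : ℕ → u6 := fun k => if h : k < 8 then e ⟨k, h⟩ else 1
  have hev : ∀ v : List ℕ, (∀ a ∈ v, a < 8) → ∀ j : Fin 693,
      ((eval e' v : u6) : Equiv.Perm (Fin 693)) j = (wordPt v j.val : ℕ) := by
    intro v
    induction v with
    | nil => intro _ j; simp [eval, wordPt]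
    | cons a v ih =>
      intro hv j
      have ha : a < 8 := hv a (List.mem_cons_self ..)
      rw [eval, Subgroup.coe_mul, Equiv.Perm.mul_apply,
        ih (fun b hb => hv b (List.mem_cons_of_mem _ hb)), wordPt]
      simp only [e', dif_pos ha, he]
  refine Subgroup.map_le_iff_le_comap.mpr ((Subgroup.closure_le _).mpr ?_)
  rintro σ ⟨p, hp, hσ⟩
  obtain ⟨i, hi, rfl⟩ := List.getElem_of_mem hp
  have hi8 : i < 8 := lt_of_lt_of_eq hi u6Gens_length
  have hσj : ∀ j : Fin 693, (σ j).val = gp i j.val := fun j => by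
    rw [gp, List.getD_eq_getElem _ _ hi, ← hσ, permCoding_enc, getP_encP hw _ _ j.isLt]
    simp [imgP]
  have heq : (MulAut.conj delta).toMonoidHom σ =
      ((eval e' (deltaWords.getD i []) : u6) : Equiv.Perm (Fin 693)) := by
    refine Equiv.ext fun j => ?_
    obtain ⟨j, rfl⟩ := delta.surjective j
    refine Fin.ext ?_
    rw [hev _ (deltaWords_small i)]
    show (delta (σ (delta.symm (delta j)))).val = _
    rw [Equiv.symm_apply_apply]
    show dPt (σ j).val = wordPt _ (dPt j.val)
    rw [hσj, delta_gens ⟨i, hi8⟩ j]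
  show (MulAut.conj delta).toMonoidHom σ ∈ u6
  rw [heq]
  exact (eval e' _).2

theorem exists_twist : ∃ D : u6 →* u6, Function.Bijective D ∧ ∀ (g : u6) (j : Fin 693),
    ((D g : Equiv.Perm (Fin 693)) (delta j)) = delta ((g : Equiv.Perm (Fin 693)) j) := by
  let D : u6 →* u6 := ((MulAut.conj delta).toMonoidHom.comp u6.subtype).codRestrict u6
    fun g => map_conj_delta_le ⟨g.1, g.2, rfl⟩
  have hinj : Function.Injective D := fun a b h =>
    Subtype.ext ((MulAut.conj delta).injective (congrArg Subtype.val h))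
  haveI : Finite u6 := Subtype.finite
  refine ⟨D, Finite.injective_iff_bijective.mp hinj, fun g j => ?_⟩
  show delta ((g : Equiv.Perm (Fin 693)) (delta.symm (delta j))) = _
  rw [Equiv.symm_apply_apply]

theorem hasSchurMultiplier_u6 :
    Cfsg.HasSchurMultiplier u6 (Multiplicative (ZMod 3 × ZMod 2 × ZMod 2)) := by
  haveI : Finite u6 := Subtype.finite
  obtain ⟨X, _, _, ρ, x, hρ, hk, hspec, hna, hb, hc, hnd⟩ := exists_double_cover
  obtain ⟨D, hD, hDj⟩ := exists_twist
  let τ₂ : X →* u6 := D.comp ρ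
  have hk₂ : Nat.card τ₂.ker = 2 := by
    rw [show τ₂.ker = ρ.ker from by
      ext y
      simp [τ₂, MonoidHom.mem_ker, map_eq_one_iff D hD.1]]
    exact hk
  have hmatch : ∀ a b : ℕ, (∀ j : Fin 693, dPt (wordPt (wit b) j.val) = wordPt (wit a) (dPt j.val)) →
      ρ (x a) = τ₂ (x b) := by
    intro a b h
    refine Subtype.ext (Equiv.ext fun j => ?_)
    obtain ⟨j, rfl⟩ := delta.surjective j
    refine Fin.ext ?_
    rw [hspec a (delta j), show τ₂ (x b) = D (ρ (x b)) from rfl, hDj]
    show wordPt (wit a) (dPt j.val) = dPt ((ρ (x b) : Equiv.Perm (Fin 693)) j).val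
    rw [hspec b j, h j]
  obtain ⟨e⟩ := psu_equiv
  have hcardK : Fintype.card K4 = 2 ^ 2 := by rw [K4.card_eq]; norm_num
  let τ₃ : Cfsg.SU 6 K4 2 →* u6 :=
    e.toMonoidHom.comp (QuotientGroup.mk' (Subgroup.center (Cfsg.SU 6 K4 2)))
  have hτ₃ : Function.Surjective τ₃ :=
    e.surjective.comp (QuotientGroup.mk'_surjective _)
  have hker : τ₃.ker = Subgroup.center (Cfsg.SU 6 K4 2) := by
    ext y
    simp [τ₃, MonoidHom.mem_ker, QuotientGroup.eq_one_iff]
  refine Schur.hasSchurMultiplier_three_four ρ hρ hk τ₂ (hD.2.comp hρ) hk₂ τ₃ hτ₃ hker.le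
    (by rw [hker, S0279.result (F := K4) (q := 2) hcardK 6 (by norm_num)]; rfl)
    (Classical.commutator_SU hcardK 4 (by norm_num) (by norm_num))
    (x 0) (x 1) (x 2) (x 3) (hmatch 0 2 fun j => (delta_wit j).1)
    (hmatch 1 3 fun j => (delta_wit j).2.1) hna hb
    (x 4) (x 5) (x 6) (x 7) (hmatch 4 6 fun j => (delta_wit j).2.2.1)
    (hmatch 5 7 fun j => (delta_wit j).2.2.2) hc hnd ?_
  intro Y _ τ hτ hτc
  haveI : NeZero u6S2Part.r := ⟨by decide +kernel⟩
  have h2 : u6S2.R.p = 2 := by decide +kernel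
  have h3 : u6S3.R.p = 3 := by decide +kernel
  refine (Schur.card_ker_inf_le_of_cert_two _ u6_ok u6Full_ok u6Full_size u6S2Part
    (by rw [h2]; exact Nat.prime_two) u6S2_ok (by rw [h3]; exact Nat.prime_three) u6S3_ok
    (by decide +kernel) (by rw [h2, h3]; norm_num) ?_ τ hτ hτc).trans
    (le_of_eq (by decide +kernel))
  intro q hq hdvd
  obtain ⟨A, hA, rfl⟩ := Schur.rest_of_factors (As := [u6S2, u6S3]) [2, 3, 5, 7, 11] (by norm_num)
    (by intro q hq; fin_cases hq <;> norm_num) (by decide +kernel) q hq hdvd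
  rcases List.mem_pair.1 hA with rfl | rfl
  · exact Or.inl rfl
  · exact Or.inr rfl

theorem hasSchurMultiplier_psu {F : Type*} [Field F] [Fintype F] (hF : Fintype.card F = 4) :
    Cfsg.HasSchurMultiplier (Cfsg.PSU 6 F 2) (Multiplicative (ZMod 3 × ZMod 2 × ZMod 2)) := by
  obtain ⟨e⟩ := psu_equiv
  exact Cfsg.Agent.Lib.Schur.hasSchurMultiplier_congr hasSchurMultiplier_u6
    (e.symm.trans (PSUThreeTwo.psuMap (FiniteField.ringEquivOfCardEq (K := K4) (K' := F)
      (by rw [K4.card_eq, hF])))) (MulEquiv.refl _)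

end Cfsg.Agent.Lib.Compute.SchurLie.U62
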