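import Cfsg.Agent.S0471
import Cfsg.Agent.Lib.Compute.SchurLie.USixWitness

/-!
The centraliser of a transposition in `Fi₂₂` as a double cover of `U₆(2)` on 693 points, with two
pairs of elements, one commuting and one not, over each of the witnesses.
-/

set_option autoImplicit false
set_option maxRecDepth 20000

namespace Cfsg.Agent.Lib.Compute.SchurLie.U62

open Cfsg.Agent.Lib.CosetTable
open Cfsg.Agent.Lib.Compute
open Cfsg.Agent.S0471
open Fi22U6

/-- the permutation of the generator `k` on the 693 points -/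
noncomputable def gp (k : ℕ) (j : ℕ) : ℕ := getP 10 (u6Gens.getD k (0, 0)).1 j

/-- the image of a point under a word in the eight generators, first letter first -/
noncomputable def wordPt : List ℕ → ℕ → ℕ
  | [], j => j
  | k :: v, j => wordPt v (gp k j)

/-- a word in the generators of `Fi₂₂` -/
def expand (v : List ℕ) : List ℕ := (v.map fun k => genWords.getD k []).flatten

/-- one of the witness words -/
def wit (i : ℕ) : List ℕ := witWords.getD i []

theorem witWords_small : ∀ v ∈ witWords ++ deltaWords, ∀ k ∈ v, k < 8 := by decide +kernel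

theorem wit_small (i : ℕ) : ∀ k ∈ wit i, k < 8 := by
  intro k hk
  rcases lt_or_ge i witWords.length with h | h
  · rw [wit, List.getD_eq_getElem _ _ h] at hk
    exact witWords_small _ (List.mem_append_left _ (List.getElem_mem h)) k hk
  · rw [wit, List.getD_eq_default _ _ h] at hk
    exact absurd hk List.not_mem_nil

theorem expand_lt (v : List ℕ) : ∀ a ∈ expand v, a < 9 := by
  intro a ha
  obtain ⟨l, hl, hal⟩ := List.mem_flatten.mp ha
  obtain ⟨k, -, rfl⟩ := List.mem_map.mp hl
  exact genWords_lt a hal

/-- the two words give the same permutation -/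
noncomputable def sameWalk (a b : List ℕ) (i : ℕ) : Bool :=
  Nat.beq (Fi22a.tab.walk a i) (Fi22a.tab.walk b i)

theorem sameWalk_one : Below (sameWalk (expand (wit 2) ++ expand (wit 3))
    (expand (wit 3) ++ expand (wit 2))) Fi22a.tab.n :=
  below_of_chunks (by decide +kernel)

theorem sameWalk_two : Below (sameWalk (expand (wit 4) ++ expand (wit 5))
    (expand (wit 5) ++ expand (wit 4))) Fi22a.tab.n :=
  below_of_chunks (by decide +kernel)

theorem moved_one : witPoints.getD 0 0 < 3510 ∧ sameWalk (expand (wit 0) ++ expand (wit 1))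
    (expand (wit 1) ++ expand (wit 0)) (witPoints.getD 0 0) = false := by decide +kernel

theorem moved_two : witPoints.getD 1 0 < 3510 ∧ sameWalk (expand (wit 6) ++ expand (wit 7))
    (expand (wit 7) ++ expand (wit 6)) (witPoints.getD 1 0) = false := by decide +kernel

theorem exists_double_cover : ∃ (X : Type) (_ : Group X) (_ : Finite X) (ρ : X →* u6) (x : ℕ → X),
    Function.Surjective ρ ∧ Nat.card ρ.ker = 2 ∧
    (∀ i, ∀ j : Fin 693, (((ρ (x i) : u6) : Equiv.Perm (Fin 693)) j).val = wordPt (wit i) j.val) ∧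
    ¬ (x 0 * x 1 = x 1 * x 0) ∧ x 2 * x 3 = x 3 * x 2 ∧
    x 4 * x 5 = x 5 * x 4 ∧ ¬ (x 6 * x 7 = x 7 * x 6) := by
  have D := S1687.certified
  obtain ⟨φ, hφ⟩ : ∃ φ : Cfsg.Spor.Fi22 →* Equiv.Perm (Fin Fi22a.tab.n),
      ∀ g, g < Fi22a.cert.k → φ (S0471.gn g) = Fi22a.checked.perm g :=
    Pres.exists_action D.good D.extra_eq D.k_eq D.rels_eq D.words D.checked
  have M := S1696.model_act
  have K := Fi22a.checked
  haveI : IsSimpleGroup Cfsg.Spor.Fi22 := S1696.result.1
  haveI : Finite Cfsg.Spor.Fi22 := Nat.finite_of_card_ne_zero (by rw [S1696.result.2]; norm_num)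
  have hinj : Function.Injective φ := by
    rcases φ.normal_ker.eq_bot_or_eq_top with h | h
    · exact (MonoidHom.ker_eq_bot_iff φ).mp h
    · exfalso
      obtain ⟨x, hx⟩ := Checked.exists_map_zero (f := gn) K φ hφ ⟨1, by decide +kernel⟩
      rw [show φ x = 1 from MonoidHom.mem_ker.mp (by rw [h]; trivial), Equiv.Perm.one_apply] at hx
      exact absurd (congrArg Fin.val hx) Nat.zero_ne_one
  have hcard : Nat.card subH = 18393661440 := by
    have hidx : subH.index = 3510 := by
      rw [Checked.index_eq K M φ hφ]; rfl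
    have h := subH.card_mul_index
    rw [hidx, S1696.result.2] at h
    exact Nat.eq_of_mul_eq_mul_right (show 0 < 3510 by norm_num) (h.trans (by norm_num))
  have hk : ∀ k, eval gn (genWords.getD k []) ∈ subH := by
    intro k
    by_cases h : k < 8
    · refine mem_subH hφ ?_
      rw [walk_eq hφ genWords_lt]
      exact (show ∀ k : Fin 8, Fi22a.tab.walk (genWords.getD k.val []) 0 = 0 by decide +kernel) ⟨k, h⟩
    · rw [List.getD_eq_default _ _ (by rw [words_small.2.2.1]; omega)]
      exact one_mem _
  let p : Fin 693 → Fin Fi22a.tab.n := fun j => ⟨orbPt j, orbPt_lt j⟩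
  have pinj : Function.Injective p := fun i j h => Fin.ext
    ((orbPt_idx i).symm.trans ((congrArg Fi22a.orb1.idx (congrArg Fin.val h :)).trans (orbPt_idx j)))
  have himg : subH.map φ ≤ presGroup p := by
    refine Subgroup.map_le_iff_le_comap.mpr ((Subgroup.closure_le _).mpr ?_)
    rintro _ ⟨w, hw, rfl⟩ j
    have h := Fi22a.orb1_ok j.val (show j.val < Fi22a.orb1.m from j.isLt)
    simp only [Orb.posOK, force_eq, andB_eq, iteB_eq, Bool.and_eq_true, beq_iff, blt_iff] at h
    have h2 := allL_spec h.2.2.1 w hw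
    simp only [Orb.mem, andB_eq, Bool.and_eq_true, beq_iff, blt_iff] at h2
    refine ⟨⟨_, h2.1⟩, Fin.ext ?_⟩
    show (φ (eval gn w) (p j)).val = _
    rw [walk_eq hφ (S1696.model_act.subs_lt w hw)]
    exact h2.2.symm
  let r : subH →* Equiv.Perm (Fin 693) :=
    (presHom p pinj).comp ((Subgroup.inclusion himg).comp (φ.subgroupMap subH))
  have hr : ∀ (x : subH) (j : Fin 693), φ x.val (p j) = p (r x j) := fun x j =>
    presHom_spec p pinj ((Subgroup.inclusion himg).comp (φ.subgroupMap subH) x) j
  let t : ℕ → subH := fun k => ⟨eval gn (genWords.getD k []), hk k⟩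
  have htk : ∀ k, k < 8 → ∀ j : Fin 693, (r (t k) j).val = gp k j.val := by
    intro k hk8 j
    obtain ⟨h1, h2⟩ := gens_act ⟨k, hk8⟩ j
    have he := congrArg Fin.val (hr (t k) j)
    rw [show ((p (r (t k) j)).val) = Fi22a.orb1.get (r (t k) j).val from rfl] at he
    rw [show φ (t k).val = φ (eval gn (genWords.getD k [])) from rfl, walk_eq hφ genWords_lt] at he
    have h3 : Fi22a.orb1.get (r (t k) j).val = Fi22a.orb1.get (gp k j.val) := he.symm.trans h2
    have h4 := congrArg Fi22a.orb1.idx h3
    have e1 := orbPt_idx (r (t k) j)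
    have e2 := orbPt_idx ⟨gp k j.val, h1⟩
    exact e1.symm.trans (h4.trans e2)
  have hword : ∀ v : List ℕ, (∀ k ∈ v, k < 8) → ∀ j : Fin 693,
      (r (eval t v) j).val = wordPt v j.val := by
    intro v
    induction v with
    | nil => intro _ j; simp [eval, wordPt]
    | cons k v ih =>
      intro hv j
      rw [eval, map_mul, Equiv.Perm.mul_apply, ih (fun a ha => hv a (List.mem_cons_of_mem _ ha)),
        htk k (hv k (List.mem_cons_self ..)), wordPt]
  have hrange : u6 ≤ r.range := by
    refine (Subgroup.closure_le _).2 ?_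
    rintro σ ⟨q, hq, hσ⟩
    obtain ⟨i, hi, rfl⟩ := List.getElem_of_mem hq
    refine ⟨t i, Equiv.ext fun j => Fin.ext ?_⟩
    rw [htk i (lt_of_lt_of_eq hi u6Gens_length) j, gp, List.getD_eq_getElem _ _ hi, ← hσ,
      permCoding_enc, getP_encP hw _ _ j.isLt]
    simp [imgP]
  haveI : Finite subH := Nat.finite_of_card_ne_zero (by rw [hcard]; norm_num)
  have ha : aG ∈ subH := mem_subH hφ (by
    rw [hφ 0 (by decide +kernel), Checked.perm_apply _ (by decide +kernel)]
    decide +kernel)
  have hak : (⟨aG, ha⟩ : subH) ∈ r.ker := by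
    refine MonoidHom.mem_ker.mpr (Equiv.ext fun j => pinj ?_)
    rw [← hr, Equiv.Perm.one_apply]
    refine Fin.ext ?_
    show (φ (gn 0) (p j)).val = _
    rw [hφ 0 (by decide +kernel), Checked.perm_apply _ (by decide +kernel)]
    exact (show ∀ j : Fin 693, Fi22a.tab.act 0 (orbPt j) = orbPt j by decide +kernel) j
  have hne : (⟨aG, ha⟩ : subH) ≠ 1 := by
    intro h
    have h' : aG = 1 := congrArg Subtype.val h
    have h2 := congrArg (fun z => (φ z ⟨1, by decide +kernel⟩).val) h'
    simp only [map_one, Equiv.Perm.one_apply, hφ 0 (by decide +kernel),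
      Checked.perm_apply _ (show 0 < Fi22a.cert.k by decide +kernel)] at h2
    exact absurd h2 (by decide +kernel)
  have hk2 : 2 ≤ Nat.card r.ker := by
    haveI : Nontrivial r.ker := ⟨⟨⟨_, hak⟩, 1, fun e => hne (congrArg Subtype.val e)⟩⟩
    exact Finite.one_lt_card
  have hprod : Nat.card r.ker * Nat.card r.range = Nat.card subH := by
    rw [← Subgroup.index_ker, Subgroup.card_mul_index]
  have hrle : 9196830720 ≤ Nat.card r.range := card_u6 ▸ Subgroup.card_le_of_le hrange
  rw [hcard] at hprod
  have hker : Nat.card r.ker = 2 := by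
    by_contra hne
    have : 3 * 9196830720 ≤ Nat.card r.ker * Nat.card r.range := Nat.mul_le_mul (by omega) hrle
    omega
  have hr2 : Nat.card r.range ≤ 9196830720 := by rw [hker] at hprod; omega
  have hrg : r.range = u6 :=
    (Subgroup.eq_of_le_of_card_ge hrange (by rw [card_u6]; exact hr2)).symm
  let ρ : subH →* u6 := (MulEquiv.subgroupCongr hrg).toMonoidHom.comp r.rangeRestrict
  have hρs : Function.Surjective ρ :=
    (MulEquiv.subgroupCongr hrg).surjective.comp r.rangeRestrict_surjective
  have hρk : ρ.ker = r.ker := by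
    ext x
    simp [ρ, MonoidHom.mem_ker, Subtype.ext_iff]
  have hev : ∀ v : List ℕ, ((eval t v : subH) : Cfsg.Spor.Fi22) = eval gn (expand v) := fun v => by
    rw [eval_coe, expand, eval_flatten_map]
  have hsame : ∀ a b : List ℕ, Below (sameWalk (expand a ++ expand b) (expand b ++ expand a)) Fi22a.tab.n →
      eval t a * eval t b = eval t b * eval t a := by
    intro a b h
    refine Subtype.ext (hinj (Equiv.ext fun i => Fin.ext ?_))
    rw [Subgroup.coe_mul, Subgroup.coe_mul, hev, hev, ← eval_append, ← eval_append,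
      walk_eq hφ (fun x hx => (List.mem_append.1 hx).elim (expand_lt b x) (expand_lt a x)),
      walk_eq hφ (fun x hx => (List.mem_append.1 hx).elim (expand_lt a x) (expand_lt b x))]
    exact (Nat.eq_of_beq_eq_true (h i.val i.isLt)).symm
  have hdiff : ∀ (a b : List ℕ) (i : ℕ), i < 3510 →
      sameWalk (expand a ++ expand b) (expand b ++ expand a) i = false →
      ¬ eval t a * eval t b = eval t b * eval t a := by
    intro a b i hi h e
    have e2 := congrArg (fun z : subH => (φ z.val ⟨i, hi⟩).val) e
    simp only [Subgroup.coe_mul, hev] at e2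
    rw [← eval_append, ← eval_append,
      walk_eq hφ (fun x hx => (List.mem_append.1 hx).elim (expand_lt b x) (expand_lt a x)),
      walk_eq hφ (fun x hx => (List.mem_append.1 hx).elim (expand_lt a x) (expand_lt b x))] at e2
    rw [sameWalk, e2] at h
    simp at h
  exact ⟨subH, inferInstance, inferInstance, ρ, fun i => eval t (wit i), hρs, by rw [hρk, hker],
    fun i j => hword _ (wit_small i) j, hdiff _ _ _ moved_one.1 moved_one.2, hsame _ _ sameWalk_one,
    hsame _ _ sameWalk_two, hdiff _ _ _ moved_two.1 moved_two.2⟩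

end Cfsg.Agent.Lib.Compute.SchurLie.U62
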